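import Cfsg.Agent.OrthDeg.AltForm

/-!
Alternating matrices of degree at least three: the orbit of rank two and the size of the other orbits.
-/

set_option autoImplicit false
set_option linter.unusedSectionVars false

namespace Cfsg.Agent.OrthMinus

open Matrix Module SLDeg OrthDeg

variable {F : Type*} [Field F] {n m : ℕ}

/-- The element of rank two. -/
def K0t (m : ℕ) (F : Type*) [Field F] : AltM (m + 3) F := wedge (e 0) (e 1)

theorem pair_K0t (B : AltM (m + 3) F) : pair (K0t m F) B = B.1 0 1 := by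
  rw [pair, Finset.sum_eq_single 0]
  · rw [Finset.sum_eq_single 1]
    · simp [K0t, wedge_apply]
    · intro j _ hj
      rcases eq_or_ne j 0 with rfl | hj0 <;> simp [K0t, wedge_apply, *]
    · simp
  · intro i _ hi
    refine Finset.sum_eq_zero fun j _ => ?_
    rcases eq_or_ne i 1 with rfl | hi1
    · rcases eq_or_ne j 0 with rfl | hj0
      · simp
      · simp [K0t, wedge_apply, hj0]
    · simp [K0t, wedge_apply, hi, hi1]
  · simp

/-! ### The orbit of rank two -/

variable [Fintype F]

/-- The matrices of rank two. -/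
def O2t (m : ℕ) (F : Type*) [Field F] : Set (AltM (m + 3) F) :=
  {K | ∃ A : SLn (m + 3) F, act A.1 (K0t m F) = K}

theorem K0t_mem : K0t m F ∈ O2t m F := ⟨1, by rw [Matrix.SpecialLinearGroup.coe_one, act_one]⟩

/-- Pairs of indepTendent vectors. -/
def indepT (m : ℕ) (F : Type*) [Field F] : Set (Fin 2 → Fin (m + 3) → F) := {p | LinearIndependent F p}

theorem wedge_mem_O2t {p : Fin 2 → Fin (m + 3) → F} (hp : p ∈ indepT m F) : wedge (p 0) (p 1) ∈ O2t m F := by
  have h : LinearIndependent F ![p 0, p 1] := by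
    have : ![p 0, p 1] = p := by funext i; fin_cases i <;> rfl
    rwa [this]
  obtain ⟨g, g0, g1⟩ := exists_move2 (m := m) h
  exact ⟨g, by rw [K0t, act_wedge, ← smul_eq, ← smul_eq, g0, g1]⟩

theorem li_e01t : LinearIndependent F ![(e 0 : Fin (m + 3) → F), e 1] := by
  refine li_pair (by simp) fun h => ?_
  obtain ⟨c, hc⟩ := Submodule.mem_span_singleton.1 h
  simpa using congrFun hc 1

theorem li_act (g : SLn n F) {p : Fin 2 → Fin n → F} (hp : LinearIndependent F p) :
    LinearIndependent F (fun i => g • p i) := by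
  have : (fun i => g • p i) = Matrix.toLin' g.1 ∘ p := funext fun i => (Matrix.toLin'_apply g.1 (p i)).symm
  rw [this]
  refine hp.map' _ (LinearMap.ker_eq_bot.2 fun x y h => sl_injective g ?_)
  simpa [smul_eq] using h

theorem fiber_K0t {p : Fin 2 → Fin (m + 3) → F} (h : wedge (p 0) (p 1) = K0t m F) :
    p 0 0 * p 1 1 - p 1 0 * p 0 1 = 1 ∧ p 0 = p 0 0 • e 0 + p 0 1 • e 1 ∧ p 1 = p 1 0 • e 0 + p 1 1 • e 1 := by
  have key : ∀ i j, p 0 i * p 1 j - p 1 i * p 0 j = (K0t m F).1 i j := fun i j => by rw [← h, wedge_apply]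
  have h01 : p 0 0 * p 1 1 - p 1 0 * p 0 1 = 1 := by rw [key]; simp [K0t, wedge_apply]
  refine ⟨h01, ?_, ?_⟩ <;>
  · funext i
    rcases eq_or_ne i 0 with rfl | hi0
    · simp
    rcases eq_or_ne i 1 with rfl | hi1
    · simp
    have a := key 0 i
    have b := key 1 i
    simp [K0t, wedge_apply, hi0, hi1] at a b
    simp [hi0, hi1]
    first
      | linear_combination p 0 1 * a - p 0 0 * b - p 0 i * h01
      | linear_combination p 1 1 * a - p 1 0 * b - p 1 i * h01

/-- Each fibre of the wedge map is a copy of the special linear group of degree two. -/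
theorem card_fiberT {K : AltM (m + 3) F} (hK : K ∈ O2t m F) :
    Nat.card {p : indepT m F // wedge (p.1 0) (p.1 1) = K} = Fintype.card F * (Fintype.card F ^ 2 - 1) := by
  classical
  obtain ⟨g, rfl⟩ := hK
  rw [← Classical.card_sl2]
  symm
  let Φ : Matrix.SpecialLinearGroup (Fin 2) F → {p : indepT m F // wedge (p.1 0) (p.1 1) = act g.1 (K0t m F)} := fun M =>
    ⟨⟨fun i => g • (M.1 i 0 • (e 0 : Fin (m + 3) → F) + M.1 i 1 • e 1), by
      refine li_act g ?_
      rw [Fintype.linearIndependent_iff]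
      intro c hc
      have c0 := congrFun hc 0
      have c1 := congrFun hc 1
      simp [Fin.sum_univ_two] at c0 c1
      have hd := M.2
      rw [Matrix.det_fin_two] at hd
      intro i
      fin_cases i
      · show c 0 = 0
        linear_combination M.1 1 1 * c0 - M.1 1 0 * c1 - c 0 * hd
      · show c 1 = 0
        linear_combination M.1 0 0 * c1 - M.1 0 1 * c0 - c 1 * hd⟩, by
      show wedge (g • _) (g • _) = _
      rw [smul_eq, smul_eq, ← act_wedge]
      congr 1
      refine Subtype.ext (Matrix.ext fun i j => ?_)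
      have hd := M.2
      rw [Matrix.det_fin_two] at hd
      rw [K0t, wedge_apply, wedge_apply]
      simp only [Pi.add_apply, Pi.smul_apply, smul_eq_mul]
      linear_combination ((e 0 : Fin (m + 3) → F) i * (e 1 : Fin (m + 3) → F) j
        - (e 1 : Fin (m + 3) → F) i * (e 0 : Fin (m + 3) → F) j) * hd⟩
  refine Nat.card_congr (Equiv.ofBijective Φ ⟨fun M N h => ?_, fun p => ?_⟩)
  · refine Matrix.SpecialLinearGroup.ext _ _ fun i j => ?_
    have := congrFun (congrArg (fun q : {p : indepT m F // _} => q.1.1) h) i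
    have h2 := sl_injective g this
    fin_cases j
    · simpa using congrFun h2 0
    · simpa using congrFun h2 1
  · obtain ⟨⟨p, hp⟩, hpK⟩ := p
    set p' : Fin 2 → Fin (m + 3) → F := fun i => g⁻¹ • p i
    have hp' : wedge (p' 0) (p' 1) = K0t m F := by
      show wedge (g⁻¹ • p 0) (g⁻¹ • p 1) = _
      rw [smul_eq, smul_eq, ← act_wedge, hpK, ← act_mul, ← Matrix.SpecialLinearGroup.coe_mul, inv_mul_cancel,
        Matrix.SpecialLinearGroup.coe_one, act_one]
    obtain ⟨hd, e0', e1'⟩ := fiber_K0t hp'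
    refine ⟨⟨!![p' 0 0, p' 0 1; p' 1 0, p' 1 1], by rw [Matrix.det_fin_two]; simp; linear_combination hd⟩, ?_⟩
    refine Subtype.ext (Subtype.ext (funext fun i => ?_))
    fin_cases i
    · show g • _ = p 0
      have h : g • p' 0 = p 0 := by simp [p']
      rw [← h]
      congr 1
      simpa using e0'.symm
    · show g • _ = p 1
      have h : g • p' 1 = p 1 := by simp [p']
      rw [← h]
      congr 1
      simpa using e1'.symm

theorem card_indepT : Nat.card (indepT m F) =
    (Fintype.card F ^ (m + 3) - 1) * (Fintype.card F ^ (m + 3) - Fintype.card F) := by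
  have h := card_linearIndependent (K := F) (V := Fin (m + 3) → F) (k := 2) (by simp)
  rw [show Nat.card (indepT m F) = _ from h]
  simp [Fin.prod_univ_two]

/-- Sums over the rank two orbit. -/
theorem sum_O2t [Fintype (O2t m F)] (φ : AltM (m + 3) F → ℂ) [Fintype (indepT m F)] :
    ((Fintype.card F * (Fintype.card F ^ 2 - 1) : ℕ) : ℂ) * ∑ K : O2t m F, φ K.1
      = ∑ p : indepT m F, φ (wedge (p.1 0) (p.1 1)) := by
  classical
  let π : indepT m F → O2t m F := fun p => ⟨_, wedge_mem_O2t p.2⟩
  rw [← Fintype.sum_fiberwise π, Finset.mul_sum]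
  refine Finset.sum_congr rfl fun K _ => ?_
  rw [Finset.sum_congr rfl fun (p : {p // π p = K}) _ =>
    (congrArg φ (congrArg Subtype.val p.2) : φ (π p.1).1 = φ K.1)]
  have hc : Fintype.card {p // π p = K} = Fintype.card F * (Fintype.card F ^ 2 - 1) := by
    rw [← card_fiberT K.2, ← Nat.card_eq_fintype_card]
    exact Nat.card_congr (Equiv.subtypeEquivRight fun p =>
      ⟨fun h => congrArg Subtype.val h, fun h => Subtype.ext h⟩)
  rw [Finset.sum_const, Finset.card_univ, nsmul_eq_mul, hc]

theorem card_O2t [Fintype (O2t m F)] : (Fintype.card F * (Fintype.card F ^ 2 - 1)) * Fintype.card (O2t m F) =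
    (Fintype.card F ^ (m + 3) - 1) * (Fintype.card F ^ (m + 3) - Fintype.card F) := by
  classical
  have h := sum_O2t (m := m) (F := F) fun _ => 1
  simp only [Finset.sum_const, Finset.card_univ, nsmul_eq_mul, mul_one] at h
  rw [← card_indepT, Nat.card_eq_fintype_card]
  exact_mod_cast h


/-- The normal forms in degree three. -/
theorem exists_normal_three (K : AltM 3 F) (hK : K ≠ 0) : ∃ A : SLn 3 F, act A.1 K = K0t 0 F := by
  obtain ⟨i, j, hij⟩ : ∃ i j, K.1 i j ≠ 0 := by
    by_contra hc
    push Not at hc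
    exact hK (Subtype.ext (Matrix.ext hc))
  have hne : i ≠ j := fun h => hij (by rw [h, alt_diag])
  obtain ⟨g, hg0, hg1⟩ := exists_move2 (m := 0) (x₀ := (e i : Fin 3 → F))
    (x₁ := (K.1 i j)⁻¹ • e j) (li_pair (by simp) fun h => by
      obtain ⟨c, hc⟩ := Submodule.mem_span_singleton.1 h
      have := congrFun hc j
      change c • (Pi.single i 1 : Fin 3 → F) j = (K.1 i j)⁻¹ • (Pi.single j 1 : Fin 3 → F) j at this
      rw [Pi.single_eq_of_ne hne.symm, Pi.single_eq_same, smul_zero, smul_eq_mul,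
        mul_one] at this
      exact inv_ne_zero hij this.symm)
  set K₁ := act (trSL g).1 K with hK₁
  have h01 : K₁.1 0 1 = 1 := by
    rw [hK₁, act_trSL, hg0, hg1, mulVec_smul, dotProduct_smul, bil_single, smul_eq_mul, inv_mul_cancel₀ hij]
  have ha : (fun k => if k = 2 then K₁.1 1 2 else 0 : Fin 3 → F) ⬝ᵥ e 0 = 0 := by simp
  have hb : (fun k => if k = 2 then -K₁.1 0 2 else 0 : Fin 3 → F) ⬝ᵥ e 1 = 0 := by simp
  set h := tv (e 0) _ ha * tv (e 1) _ hb with hh
  have h0 : h • (e 0 : Fin 3 → F) = e 0 := by simp [hh, mul_smul, tv_apply]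
  have h1 : h • (e 1 : Fin 3 → F) = e 1 := by simp [hh, mul_smul, tv_apply]
  have h2 : h • (e 2 : Fin 3 → F) = e 2 + K₁.1 1 2 • e 0 + (-K₁.1 0 2) • e 1 := by
    rw [hh, mul_smul, tv_apply, tv_apply]
    simp [dotProduct, Fin.sum_univ_three]
    module
  refine ⟨trSL h * trSL g, ?_⟩
  rw [Matrix.SpecialLinearGroup.coe_mul, act_mul, ← hK₁]
  set K₂ := act (trSL h).1 K₁ with hK₂
  have a01 : K₂.1 0 1 = 1 := by rw [hK₂, act_trSL, h0, h1, bil_single, h01]
  have a02 : K₂.1 0 2 = 0 := by
    rw [hK₂, act_trSL, h0, h2]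
    simp only [mulVec_add, mulVec_smul, dotProduct_add, dotProduct_smul, bil_single, alt_diag, h01, smul_eq_mul]
    ring
  have a12 : K₂.1 1 2 = 0 := by
    rw [hK₂, act_trSL, h1, h2]
    simp only [mulVec_add, mulVec_smul, dotProduct_add, dotProduct_smul, bil_single, alt_diag, alt_swap K₁ 0 1, h01,
      smul_eq_mul]
    ring
  refine Subtype.ext (Matrix.ext fun k l => ?_)
  rw [K0t, wedge_apply]
  fin_cases k <;> fin_cases l <;>
    simp [alt_diag, a01, a02, a12, alt_swap K₂ 0 1, alt_swap K₂ 0 2, alt_swap K₂ 1 2]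

/-- A large set of congruent copies of a matrix of rank at least four. -/
theorem big_orbit_sl [Fintype F] (K : AltM (m + 4) F) (hK : Big K) :
    (Fintype.card F ^ (m + 3) - 1) * Fintype.card F ^ (m + 2) ≤
      {K' | ∃ A : SLn (m + 4) F, act A.1 K = K'}.ncard := by
  classical
  obtain ⟨k01, k0, k1, -⟩ := hK
  let W := Fin (m + 2) → F
  let ext : W → Fin (m + 4) → F := fun w => Fin.cons 0 (Fin.cons 0 w)
  have hext0 : ∀ w, (e 0 : Fin (m + 4) → F) ⬝ᵥ ext w = 0 := fun w => by simp [ext]
  let Aw : W → SLn (m + 4) F := fun w => tv (ext w) (e 0) (hext0 w)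
  have r0 : ∀ j, K.1 0 j = (e 1 : Fin (m + 4) → F) j := fun j => by
    rcases eq_or_ne j 1 with rfl | hj
    · simp [k01]
    · simp [k0 j hj, hj]
  have c0 : ∀ i, K.1 i 0 = -(e 1 : Fin (m + 4) → F) i := fun i => by rw [alt_swap K 0 i, r0]
  have hKw : ∀ w i j, (act (Aw w).1 K).1 i j = K.1 i j
      + ext w i * (e 1 : Fin (m + 4) → F) j - (e 1 : Fin (m + 4) → F) i * ext w j := by
    intro w i j
    have hrow : ∀ i, (fun b => (Aw w).1 i b) = e i + ext w i • (e 0 : Fin (m + 4) → F) := fun i => by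
      funext b
      simp [Aw, tv, vecMulVec_apply, Matrix.one_apply, Pi.single_apply, eq_comm]
    rw [act_apply, hrow, hrow]
    simp only [mulVec_add, mulVec_smul, dotProduct_add, dotProduct_smul, add_dotProduct, smul_dotProduct,
      bil_single, smul_eq_mul, r0, c0]
    rw [e_ne (show (0 : Fin (m + 4)) ≠ 1 by simp)]
    ring
  let Vn := {v : Fin (m + 3) → F // v ≠ 0}
  have hg : ∀ v : Vn, ∃ g : SLn (m + 3) F, g • (e 0 : Fin (m + 3) → F) = v.1 := fun v => by
    obtain ⟨z, hz⟩ := exists_third v.1 v.1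
    rw [Set.pair_eq_singleton] at hz
    obtain ⟨g, g0, -⟩ := exists_move2 (li_pair v.2 hz)
    exact ⟨g, g0⟩
  choose g hg using hg
  have hsucc : (1 : Fin (m + 4)) = Fin.succ 0 := rfl
  have hblk : ∀ (v : Vn) w j, (act (iota (g v)).1 (act (Aw w).1 K)).1 0 j
      = (Fin.cons 0 v.1 : Fin (m + 4) → F) j := by
    intro v w j
    set K₂ := act (Aw w).1 K with hK₂
    have r2 : ∀ j, K₂.1 0 j = (e 1 : Fin (m + 4) → F) j := fun j => by
      rw [hK₂, hKw, r0]
      simp [ext]
    have hrow0 : ∀ b, (iota (g v)).1 0 b = (e 0 : Fin (m + 4) → F) b := fun b => by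
      show blk 1 (g v).1 0 b = _
      refine Fin.cases ?_ (fun c => ?_) b <;> simp [blk]
    rw [act_apply, show (fun b => (iota (g v)).1 0 b) = (e 0 : Fin (m + 4) → F) from funext hrow0,
      single_one_dotProduct]
    simp only [mulVec, dotProduct, r2]
    rw [Finset.sum_eq_single 1 (fun b _ hb => by rw [e_ne hb, zero_mul]) (by simp), e_self, one_mul]
    show blk 1 (g v).1 j 1 = _
    refine Fin.cases ?_ (fun c => ?_) j
    · rw [hsucc]; simp [blk, -Fin.succ_zero_eq_one]
    · simp only [blk, hsucc, of_apply, Fin.cons_succ]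
      rw [← hg v, smul_eq, mulVec_single_one]
      rfl
  let Θ : Vn × W → {K' | ∃ A : SLn (m + 4) F, act A.1 K = K'} := fun p =>
    ⟨act (iota (g p.1)).1 (act (Aw p.2).1 K), iota (g p.1) * Aw p.2, by
      rw [Matrix.SpecialLinearGroup.coe_mul, act_mul]⟩
  have hΘ : Function.Injective Θ := by
    rintro ⟨v, w⟩ ⟨v', w'⟩ h
    have h' := congrArg Subtype.val h
    simp only [Θ] at h'
    have hv : v = v' := by
      refine Subtype.ext (funext fun c => ?_)
      have := congrFun (congrFun (congrArg Subtype.val h') 0) c.succ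
      rwa [hblk, hblk, Fin.cons_succ, Fin.cons_succ] at this
    subst hv
    have h'' := act_injective (by rw [(iota (g v)).2]; exact isUnit_one) h'
    have hw : w = w' := funext fun c => by
      have := congrFun (congrFun (congrArg Subtype.val h'') c.succ.succ) 1
      rw [hKw, hKw] at this
      have hne : (c.succ.succ : Fin (m + 4)) ≠ 1 := by rw [hsucc, ne_eq, Fin.succ_inj]; exact Fin.succ_ne_zero c
      simpa [ext, hne] using this
    rw [hw]
  have h := Nat.card_le_card_of_injective Θ hΘ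
  rw [Nat.card_prod, Nat.card_eq_fintype_card, Fintype.card_subtype_compl, Fintype.card_subtype_eq, Fintype.card_fun,
    Fintype.card_fin, Nat.card_eq_fintype_card, Fintype.card_fun, Fintype.card_fin, Nat.card_coe_set_eq] at h
  exact h

end Cfsg.Agent.OrthMinus
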