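import Cfsg.Agent.OrthMinus.Heis

/-!
The spectrum of a small representation on the centre of the radical; the linear group moves the fixed space.
-/

set_option autoImplicit false
set_option linter.unusedSectionVars false

namespace Cfsg.Agent.OrthMinus

open Matrix Module SLDeg OrthDeg QuadraticMap Classical.Quad SUDeg

variable {F : Type*} [Field F] [Fintype F] {m : ℕ} {a b : F} {G : Type*} [Group G]
variable (E : HFrame m F a b G) {ψ : AddChar F ℂ} {k : ℕ} (ρ : Representation ℂ G (Fin k → ℂ))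

theorem K0t_ne : K0t m F ≠ 0 := fun h => by
  simpa [K0t, wedge_apply] using congrArg (fun K : AltM (m + 3) F => K.1 0 1) h

theorem lamT_bijective (hψ : ψ ≠ 1) : Function.Bijective (lamT (m := m) ψ) := by
  classical
  refine (Fintype.bijective_iff_injective_and_card _).2 ⟨fun K K' h => ?_, AddChar.card_eq.symm⟩
  have he : ∀ B, pair (K - K') B = 0 := fun B => eq_zero_of_psi hψ fun t => by
    let B' : AltM (m + 3) F := ⟨t • B.1, by
      refine ⟨by rw [transpose_smul, B.2.1, smul_neg], fun i => by simp [alt_diag]⟩⟩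
    have hB : t * pair (K - K') B = pair (K - K') B' := by
      simp only [pair, Finset.mul_sum, B']
      refine Finset.sum_congr rfl fun i _ => Finset.sum_congr rfl fun j _ => ?_
      split_ifs <;> simp [mul_left_comm]
    have h' : ψ (pair K B') = ψ (pair K' B') := DFunLike.congr_fun h B'
    rw [hB, pair_comm, sub_eq_add_neg, pair_add, AddChar.map_add_eq_mul, pair_comm B', pair_comm B', h',
      pair_comm (-K'), ← AddChar.map_add_eq_mul, pair_comm K', ← pair_add, add_neg_cancel, pair_comm, pair_zero_left,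
      AddChar.map_zero_eq_one]
  refine sub_eq_zero.1 (Subtype.ext (Matrix.ext fun i j => ?_))
  rcases lt_trichotomy i j with h' | h' | h'
  · have := he (wedge (e i) (e j))
    rw [pair_comm, pair_eq (M := vecMulVec (e i) (e j)) (K := wedge (e i : Fin (m + 3) → F) (e j))
      (by simp [wedge, transpose_vecMulVec]), ← sum_eq_trace,
      Finset.sum_eq_single i (fun x _ hx => Finset.sum_eq_zero fun y _ => by simp [vecMulVec_apply, e_ne hx]) (by simp),
      Finset.sum_eq_single j (fun y _ hy => by simp [vecMulVec_apply, e_ne hy]) (by simp)] at this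
    simpa [vecMulVec_apply] using this
  · subst h'
    exact alt_diag (K - K') i
  · have := he (wedge (e j) (e i))
    rw [pair_comm, pair_eq (M := vecMulVec (e j) (e i)) (K := wedge (e j : Fin (m + 3) → F) (e i))
      (by simp [wedge, transpose_vecMulVec]), ← sum_eq_trace,
      Finset.sum_eq_single j (fun x _ hx => Finset.sum_eq_zero fun y _ => by simp [vecMulVec_apply, e_ne hx]) (by simp),
      Finset.sum_eq_single i (fun y _ hy => by simp [vecMulVec_apply, e_ne hy]) (by simp)] at this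
    have h2 : (K - K').1 j i = 0 := by simpa [vecMulVec_apply] using this
    rw [alt_swap (K - K') j i, h2, neg_zero]
    rfl

theorem sum_eigK (hψ : ψ ≠ 1) : ∑ K, finrank ℂ (eigK E ψ ρ K) = k := by
  classical
  have h := sum_finrank_eig (phx E ρ)
  rw [Module.finrank_fin_fun] at h
  exact (Fintype.sum_bijective _ (lamT_bijective (m := m) hψ) _ _ fun K => rfl).trans h

theorem finrank_four (hψ : ψ ≠ 1) (hab : ∀ z₁ z₂ : F, z₁ ^ 2 + a * z₁ * z₂ + b * z₂ ^ 2 = 0 → z₁ = 0 ∧ z₂ = 0)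
    (K : AltM (m + 3) F) (i₂ i₃ : Fin (m + 3)) (k01 : K.1 0 1 = 1) (k03 : K.1 0 i₃ = 0) (k12 : K.1 1 i₂ = 0)
    (k13 : K.1 1 i₃ = 0) (k23 : K.1 i₂ i₃ ≠ 0) (h0 : eigK E ψ ρ K ≠ ⊥) :
    Fintype.card F ^ 4 ≤ finrank ℂ (eigK E ψ ρ K) := by
  classical
  let ι : (F × F) × F × F →+ Fin (m + 3) → F × F :=
    (AddMonoidHom.comp (sglHom 1) (AddMonoidHom.fst _ _)) + (AddMonoidHom.comp (sglHom i₃) (AddMonoidHom.snd _ _))
  let τ : (F × F) × F × F → Fin (m + 3) → F × F := fun d => sgl 0 d.1 + sgl i₂ d.2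
  let η : (F × F) × F × F → AddChar ((F × F) × F × F) ℂ := fun d =>
    { toFun := fun c => etaP a b ψ d.1 c.1 * etaP a b ψ d.2 (K.1 i₂ i₃ • c.2)
      map_zero_eq_one' := by
        rw [Prod.fst_zero, Prod.snd_zero, smul_zero, AddChar.map_zero_eq_one, AddChar.map_zero_eq_one, mul_one]
      map_add_eq_mul' := fun c c' => by
        rw [Prod.fst_add, Prod.snd_add, smul_add, AddChar.map_add_eq_mul, AddChar.map_add_eq_mul]
        ring }
  have hιc : ∀ c, ι c = sgl 1 c.1 + sgl i₃ c.2 := fun c => by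
    simp only [ι, AddMonoidHom.add_apply, AddMonoidHom.comp_apply, AddMonoidHom.coe_fst, AddMonoidHom.coe_snd]
    rfl
  have hι : ∀ c c', pair K (Dm a b (ι c) (ι c')) = 0 := fun c c' => by
    rw [hιc, hιc]
    rw [pair_Dm_add_left, pair_Dm_add_right, pair_Dm_add_right, pair_Dm_sgl, pair_Dm_sgl, pair_Dm_sgl, pair_Dm_sgl,
      alt_diag, alt_diag, alt_swap K 1 i₃, k13]
    ring
  have hη : Function.Injective η := fun d d' h => by
    have h' : ∀ c : (F × F) × F × F, etaP a b ψ d.1 c.1 * etaP a b ψ d.2 (K.1 i₂ i₃ • c.2) =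
        etaP a b ψ d'.1 c.1 * etaP a b ψ d'.2 (K.1 i₂ i₃ • c.2) := fun c => DFunLike.congr_fun h c
    refine Prod.ext ((etaP_bijective hψ hab).1 (DFunLike.ext _ _ fun c => ?_))
      ((etaP_bijective hψ hab).1 (DFunLike.ext _ _ fun c => ?_))
    · have h1 := h' (c, 0)
      rwa [smul_zero, AddChar.map_zero_eq_one, AddChar.map_zero_eq_one, mul_one, mul_one] at h1
    · have h1 := h' (0, (K.1 i₂ i₃)⁻¹ • c)
      rwa [smul_inv_smul₀ k23, AddChar.map_zero_eq_one, AddChar.map_zero_eq_one, one_mul, one_mul] at h1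
  have h := card_shifts_le E ψ ρ hι h0 τ η hη fun d c => by
    show ψ _ = ψ (polar (binForm a b) d.1 c.1) * ψ (polar (binForm a b) d.2 (K.1 i₂ i₃ • c.2))
    rw [← AddChar.map_add_eq_mul, QuadraticMap.polar_smul_right, smul_eq_mul]
    congr 1
    rw [hιc]
    simp only [τ]
    simp only [pair_Dm_add_left, pair_Dm_add_right, pair_Dm_sgl]
    rw [alt_swap K 0 1, k01, alt_swap K i₂ i₃, k03, alt_swap K 0 i₃, k03, alt_swap K 1 i₂, k12, ← bb_polar, ← bb_polar]
    ring
  rw [Fintype.card_prod, Fintype.card_prod] at h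
  exact le_trans (le_of_eq (by ring)) h

theorem ineq_big (q m : ℕ) (hq : 2 ≤ q) :
    (q ^ (m + 5) + 1) * (q ^ (m + 4) - q) ≤ (q ^ (m + 3) - 1) * q ^ (m + 2) * q ^ 4 * (q ^ 2 - 1) := by
  obtain ⟨X, hX⟩ : ∃ X, X = q ^ (m + 2) := ⟨_, rfl⟩
  have h4 : 4 ≤ X := hX ▸ (Nat.pow_le_pow_left hq 2).trans (Nat.pow_le_pow_right (by omega) (by omega))
  rw [show q ^ (m + 5) = q ^ 3 * X by rw [hX]; ring, show q ^ (m + 4) = q * q * X by rw [hX]; ring,
    show q ^ (m + 3) = q * X by rw [hX]; ring, ← hX]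
  have h1 : q ^ 3 * X + 1 ≤ q ^ 4 * X := by
    have : 1 ≤ q ^ 3 * X := Nat.one_le_iff_ne_zero.2 (Nat.mul_ne_zero (pow_ne_zero _ (by omega)) (by omega))
    have h' : 2 * (q ^ 3 * X) ≤ q * (q ^ 3 * X) := Nat.mul_le_mul_right _ hq
    rw [show q ^ 4 * X = q * (q ^ 3 * X) by ring]
    omega
  have h2 : q * q * X - q ≤ (q * X - 1) * (q ^ 2 - 1) := by
    rw [show q * q * X - q = q * (q * X - 1) by rw [Nat.mul_sub, mul_one, mul_assoc], mul_comm q]
    refine Nat.mul_le_mul_left _ ?_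
    have : 2 * q ≤ q ^ 2 := by rw [_root_.sq]; exact Nat.mul_le_mul_right q hq
    omega
  calc (q ^ 3 * X + 1) * (q * q * X - q) ≤ q ^ 4 * X * ((q * X - 1) * (q ^ 2 - 1)) := Nat.mul_le_mul h1 h2
    _ = _ := by ring

/-- The bound times `q² - 1`. -/
def num (q m : ℕ) : ℕ := (q ^ (m + 4) + 1) * (q ^ (m + 3) - q)

theorem card_O2t_mul [Fintype (O2t m F)] : (Fintype.card F ^ 2 - 1) * Fintype.card (O2t m F) =
    (Fintype.card F ^ (m + 3) - 1) * (Fintype.card F ^ (m + 2) - 1) := by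
  have h := card_O2t (m := m) (F := F)
  have hq : 2 ≤ Fintype.card F := Fintype.one_lt_card
  rw [show Fintype.card F ^ (m + 3) - Fintype.card F = Fintype.card F * (Fintype.card F ^ (m + 2) - 1) by
    rw [Nat.mul_sub, mul_one, pow_succ'], mul_assoc, mul_left_comm _ (Fintype.card F)] at h
  exact Nat.eq_of_mul_eq_mul_left (show 0 < Fintype.card F by omega) h

theorem num_eq (q m N τ : ℕ) (hq : 2 ≤ q) (hN : (q ^ 2 - 1) * N = (q ^ (m + 3) - 1) * (q ^ (m + 2) - 1))
    (hτ : q ^ (m + 3) - q = (q - 1) * τ) : num q m = (q ^ 2 * N + τ) * (q ^ 2 - 1) := by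
  have p : ∀ j, 1 ≤ q ^ j := fun j => Nat.one_le_pow _ _ (by omega)
  have p' : q ≤ q ^ (m + 3) := Nat.le_self_pow (by omega) q
  rw [num]
  zify [p 2, p (m + 3), p (m + 2), p', (by omega : 1 ≤ q)] at hN hτ ⊢
  linear_combination -((q : ℤ) ^ 2) * hN + ((q : ℤ) + 1) * hτ

theorem num_le (q m N : ℕ) (hq : 2 ≤ q) (hN : (q ^ 2 - 1) * N = (q ^ (m + 3) - 1) * (q ^ (m + 2) - 1)) :
    num q m ≤ 2 * q ^ 2 * N * (q ^ 2 - 1) := by
  rw [mul_assoc, mul_comm N, hN, num]
  obtain ⟨X, hX⟩ : ∃ X, X = q ^ (m + 2) := ⟨_, rfl⟩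
  have h4 : 4 ≤ X := hX ▸ (Nat.pow_le_pow_left hq 2).trans (Nat.pow_le_pow_right (by omega) (by omega))
  rw [show q ^ (m + 4) = q * q * X by rw [hX]; ring, show q ^ (m + 3) = q * X by rw [hX]; ring, ← hX]
  have h1 : 1 ≤ q * X := Nat.one_le_iff_ne_zero.2 (Nat.mul_ne_zero (by omega) (by omega))
  have h2 : q ≤ q * X := Nat.le_mul_of_pos_right q (by omega)
  zify [h1, h2, (by omega : 1 ≤ X)]
  nlinarith [mul_le_mul_of_nonneg_left (show (4 : ℤ) ≤ X by exact_mod_cast h4)
    (show (0 : ℤ) ≤ q * q * q * X by positivity), show (2 : ℤ) ≤ q by exact_mod_cast hq,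
    mul_le_mul_of_nonneg_right (show (2 : ℤ) ≤ q by exact_mod_cast hq) (show (0 : ℤ) ≤ q * q * X by positivity),
    show (0 : ℤ) ≤ q * q by positivity]

/-- The spectrum of a small representation nontrivial on the centre of the radical. -/
theorem small (hψ : ψ ≠ 1) (hab : ∀ z₁ z₂ : F, z₁ ^ 2 + a * z₁ * z₂ + b * z₂ ^ 2 = 0 → z₁ = 0 ∧ z₂ = 0)
    [Fintype (O2t m F)] (hnt : ∃ B, ρ (E.x B) ≠ 1) (hk : k * (Fintype.card F ^ 2 - 1) < num (Fintype.card F) m) :
    (∀ K, K ≠ 0 → (K ∈ O2t m F → finrank ℂ (eigK E ψ ρ K) = Fintype.card F ^ 2) ∧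
      (K ∉ O2t m F → finrank ℂ (eigK E ψ ρ K) = 0)) ∧
      k = finrank ℂ (eigK E ψ ρ 0) + Fintype.card F ^ 2 * Fintype.card (O2t m F) := by
  classical
  set q := Fintype.card F with hqdef
  have hq : 2 ≤ q := Fintype.one_lt_card
  have hsum := sum_eigK E ρ hψ
  have hN := card_O2t_mul (m := m) (F := F)
  have honly : ∀ K, K ≠ 0 → finrank ℂ (eigK E ψ ρ K) ≠ 0 → K ∈ O2t m F := by
    intro K hK hd
    have fin : ∀ A : SLn (m + 3) F, act A.1 K = K0t m F → K ∈ O2t m F := fun A hA => ⟨A⁻¹, by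
      rw [← hA, ← act_mul, ← Matrix.SpecialLinearGroup.coe_mul, inv_mul_cancel, Matrix.SpecialLinearGroup.coe_one,
        act_one]⟩
    cases m with
    | zero =>
      obtain ⟨A, hA⟩ := exists_normal_three K hK
      exact fin A hA
    | succ m' =>
      obtain ⟨A, hA | hA⟩ := exists_normal (m := m') K hK
      · exact fin A hA
      exfalso
      set K' : AltM (m' + 1 + 3) F := act A.1 K
      have hd' : eigK E ψ ρ K' ≠ ⊥ := fun h => hd (by
        rw [← finrank_act E ψ ρ A K]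
        show finrank ℂ (eigK E ψ ρ K') = 0
        rw [h, finrank_bot])
      set S := {K'' : AltM (m' + 1 + 3) F | ∃ B : SLn (m' + 1 + 3) F, act B.1 K' = K''}
      have h4 := finrank_four E ρ hψ hab K' 2 3 hA.1 (hA.2.1 3 (two_three (m := m')).2.2.2.1)
        (hA.2.2.1 2 (two_three (m := m')).1) (hA.2.2.1 3 (two_three (m := m')).2.2.1) hA.2.2.2 hd'
      have h1 : S.ncard * q ^ 4 ≤ k := by
        rw [Set.ncard_eq_toFinset_card', ← hsum, Finset.card_eq_sum_ones, Finset.sum_mul]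
        refine le_trans (Finset.sum_le_sum fun K'' hK'' => ?_) (Finset.sum_le_univ_sum_of_nonneg fun _ => Nat.zero_le _)
        obtain ⟨B, rfl⟩ := Set.mem_toFinset.1 hK''
        rw [finrank_act, one_mul]
        exact h4
      have h2 : (q ^ (m' + 3) - 1) * q ^ (m' + 2) * q ^ 4 ≤ k :=
        (Nat.mul_le_mul_right _ (big_orbit_sl (m := m') K' hA)).trans h1
      exact absurd ((ineq_big q m' hq).trans (Nat.mul_le_mul_right (q ^ 2 - 1) h2)) (not_le.2 hk)
  obtain ⟨c, hc⟩ : ∃ c, ∀ K ∈ O2t m F, finrank ℂ (eigK E ψ ρ K) = q ^ 2 * c :=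
    ⟨finrank ℂ (eig (phA E ψ ρ (sglHom 1) (K0t m F) (hK0_comm 1 (by simp))) ⊤ 1), fun K ⟨A, hA⟩ => by
      rw [← hA, finrank_act, finrank_K0 E ρ hψ hab 1]⟩
  have hO0 : ∀ K ∈ O2t m F, K ≠ 0 := by
    rintro K ⟨A, rfl⟩ h0
    exact K0t_ne (act_injective (show IsUnit A.1.det by rw [A.2]; exact isUnit_one) (h0.trans (map_zero (act A.1)).symm))
  have hsplit : k = finrank ℂ (eigK E ψ ρ 0) + Fintype.card (O2t m F) * (q ^ 2 * c) := by
    refine hsum.symm.trans ?_
    rw [← Finset.sum_erase_add _ _ (Finset.mem_univ (0 : AltM (m + 3) F)), add_comm]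
    congr 1
    rw [← Finset.sum_subset (s₁ := (O2t m F).toFinset)]
    · rw [Finset.sum_congr rfl fun K hK => hc K (Set.mem_toFinset.1 hK), Finset.sum_const, smul_eq_mul,
        Set.toFinset_card]
    · exact fun K hK => Finset.mem_erase.2 ⟨hO0 K (Set.mem_toFinset.1 hK), Finset.mem_univ K⟩
    · intro K hK hK'
      by_contra h
      exact hK' (Set.mem_toFinset.2 (honly K (Finset.ne_of_mem_erase hK) h))
  have hc1 : c = 1 := by
    rcases Nat.lt_or_ge c 1 with h | h
    · exfalso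
      obtain ⟨B, hB⟩ := hnt
      refine hB ?_
      have h0 : finrank ℂ (eigK E ψ ρ 0) = k := by
        have h' := hsplit
        rw [show c = 0 by omega, mul_zero, mul_zero, add_zero] at h'
        exact h'.symm
      have htop : eigK E ψ ρ 0 = ⊤ := Submodule.eq_top_of_finrank_eq (by rw [h0, Module.finrank_fin_fun])
      refine LinearMap.ext fun v => ?_
      have := (mem_eigK E ψ ρ).1 (htop ▸ Submodule.mem_top : v ∈ eigK E ψ ρ 0) B
      rwa [pair_zero_left, AddChar.map_zero_eq_one, one_smul] at this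
    · by_contra h2
      have h3 : Fintype.card (O2t m F) * (q ^ 2 * 2) ≤ k := by
        refine le_of_le_of_eq ?_ hsplit.symm
        exact le_add_of_nonneg_of_le (Nat.zero_le _) (Nat.mul_le_mul_left _ (Nat.mul_le_mul_left _ (by omega)))
      have h5 := num_le q m _ hq hN
      have h6 := Nat.mul_le_mul_right (q ^ 2 - 1) h3
      refine absurd (h5.trans (le_trans (le_of_eq ?_) h6)) (not_le.2 hk)
      ring
  subst hc1
  refine ⟨fun K hK => ⟨fun h => by rw [hc K h, mul_one], fun h => ?_⟩, hsplit.trans (by ring)⟩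
  by_contra h'
  exact h (honly K hK h')

theorem mv_tv (t : Fin (m + 3) → F) (ht : t ⬝ᵥ e 0 = 0) (u : Fin (m + 3) → F × F) :
    mv ((tv (e 0) t ht)⁻¹).1ᵀ u = fun i => u i - t i • u 0 := by
  have hinv : (tv (e 0) t ht)⁻¹ = tv (e 0) (-t) (by rw [neg_dotProduct, ht, neg_zero]) :=
    inv_eq_of_mul_eq_one_right (by rw [tv_mul_right, tv_congr _ (by simp) rfl (add_neg_cancel t), tv_zero_right])
  funext i
  rw [mv, hinv]
  simp [tv, vecMulVec_apply, Matrix.one_apply, Pi.single_apply, add_smul, Finset.sum_add_distrib, ite_smul,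
    sub_eq_add_neg]

/-- The linear group moves the fixed space of the centre in a small representation. -/
theorem moves (hψ : ψ ≠ 1) (hab : ∀ z₁ z₂ : F, z₁ ^ 2 + a * z₁ * z₂ + b * z₂ ^ 2 = 0 → z₁ = 0 ∧ z₂ = 0)
    [Fintype (O2t m F)] (hnt : ∃ B, ρ (E.x B) ≠ 1) (hnt' : ∃ B, ρ (E.th (E.x B)) ≠ 1)
    (hk : k * (Fintype.card F ^ 2 - 1) < num (Fintype.card F) m) :
    ∃ g, ∃ v ∈ eigK E ψ ρ 0, ρ (E.L g) v ≠ v := by
  classical
  obtain ⟨h1, h2⟩ := small E ρ hψ hab hnt hk
  let ρ' : Representation ℂ G (Fin k → ℂ) := MonoidHom.comp ρ E.th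
  obtain ⟨-, h2'⟩ := small E ρ' hψ hab hnt' hk
  by_contra hcon
  push Not at hcon
  have h01 : (0 : Fin (m + 3)) ≠ 1 := by simp
  have hdim : finrank ℂ (eigK E ψ ρ (K0t m F)) = Fintype.card F ^ 2 := (h1 _ K0t_ne).1 K0t_mem
  set φ := phA E ψ ρ (sglHom 1) (K0t m F) (hK0_comm (a := a) (b := b) 1 (by simp)) with hφ
  have hone : ∀ χ : AddChar (F × F) ℂ, finrank ℂ (eig φ ⊤ χ) = 1 := fun χ => by
    have h := finrank_K0 E ρ hψ hab χ
    rw [hdim, ← hφ] at h
    exact (Nat.eq_of_mul_eq_mul_left (pow_pos Fintype.card_pos 2) ((mul_one _).trans h)).symm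
  obtain ⟨v, hv, hv0⟩ := (Submodule.ne_bot_iff _).1 (fun h => by
    have := hone 1
    rw [h, finrank_bot] at this
    exact absurd this (by simp) : eig φ ⊤ (1 : AddChar (F × F) ℂ) ≠ ⊥)
  have hvc : ∀ c, ρ (E.wv (sgl 1 c)) v.1 = v.1 := fun c =>
    ((mem_eigA E ψ ρ).1 hv c).trans (by rw [AddChar.one_apply, one_smul])
  -- the translates span
  let vb : F × F → eigK E ψ ρ (K0t m F) := fun d => ⟨ρ (E.wv (sgl 0 d)) v.1, wv_eigK E ψ ρ v.2 _⟩
  have hext : ∀ T T' : Module.End ℂ (Fin k → ℂ), (∀ d, T (vb d).1 = T' (vb d).1) →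
      ∀ w ∈ eigK E ψ ρ (K0t m F), T w = T' w := by
    intro T T' hTT w hw
    have hspan : Submodule.span ℂ (Set.range vb) = ⊤ := by
      refine top_le_iff.1 fun x _ => ?_
      obtain ⟨_, hs⟩ := sum_proj (φ := φ) x
      rw [← hs]
      refine Submodule.sum_mem _ fun χ _ => ?_
      obtain ⟨d, hd⟩ := (etaP_bijective (a := a) (b := b) hψ hab).2 χ
      have hmem : vb d ∈ eig φ ⊤ χ := by
        have h := shift_mem E ψ ρ hv (w := sgl 0 d) (η := etaP a b ψ d) fun c => hK0_shift d c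
        rwa [one_mul, hd] at h
      have hne : vb d ≠ 0 := fun h0 => hv0 (Subtype.ext (rep_injective ρ (E.wv (sgl 0 d))
        ((congrArg Subtype.val h0).trans (map_zero _).symm)))
      obtain ⟨c, hc⟩ := (finrank_eq_one_iff_of_nonzero' (⟨vb d, hmem⟩ : eig φ ⊤ χ)
        (fun h => hne (congrArg Subtype.val h))).1 (hone χ)
        ⟨proj φ χ x, proj_mem (C := ⊤) (fun _ _ _ => Submodule.mem_top) χ Submodule.mem_top⟩
      have hc' : c • vb d = proj φ χ x := congrArg Subtype.val hc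
      rw [← hc']
      exact Submodule.smul_mem _ c (Submodule.subset_span ⟨d, rfl⟩)
    have h := LinearMap.ext_on hspan (f := T.domRestrict (eigK E ψ ρ (K0t m F))) (g := T'.domRestrict _)
      (by rintro _ ⟨d, rfl⟩; exact hTT d)
    exact LinearMap.congr_fun h ⟨w, hw⟩
  -- the elements away from the first two indices
  have hR : ∀ u : Fin (m + 3) → F × F, u 0 = 0 → u 1 = 0 → ∀ w ∈ eigK E ψ ρ (K0t m F), ρ (E.wv u) w = w := by
    have hcom : ∀ u w : Fin (m + 3) → F × F, u 0 = 0 → u 1 = 0 →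
        pair (K0t m F) (Dm a b u w) = 0 ∧ pair (K0t m F) (Dm a b w u) = 0 := fun u w h0 h1 => by
      constructor <;> rw [pair_K0_Dm, h0, h1] <;> simp [bb_zero_left, bb_zero_right]
    have hβ : ∀ u : Fin (m + 3) → F × F, u 0 = 0 → u 1 = 0 →
        ∃ β : ℂ, ∀ w ∈ eigK E ψ ρ (K0t m F), ρ (E.wv u) w = β • w := by
      intro u h0 h1
      have hmem : (⟨ρ (E.wv u) v.1, wv_eigK E ψ ρ v.2 u⟩ : eigK E ψ ρ (K0t m F)) ∈ eig φ ⊤ (1 : AddChar (F × F) ℂ) := by
        have h := shift_mem E ψ ρ hv (w := u) (η := 1) fun c => by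
          rw [(hcom u _ h0 h1).1, (hcom u _ h0 h1).2, sub_self, AddChar.map_zero_eq_one, AddChar.one_apply]
        rwa [mul_one] at h
      obtain ⟨β, hβ⟩ := (finrank_eq_one_iff_of_nonzero' (⟨v, hv⟩ : eig φ ⊤ (1 : AddChar (F × F) ℂ))
        (fun h => hv0 (congrArg Subtype.val h))).1 (hone 1) ⟨_, hmem⟩
      have hβ' : β • v.1 = ρ (E.wv u) v.1 :=
        congrArg (fun z : eig φ ⊤ (1 : AddChar (F × F) ℂ) => (z.1.1 : Fin k → ℂ)) hβ
      refine ⟨β, fun w hw => hext (ρ (E.wv u)) (β • 1) (fun d => ?_) w hw⟩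
      show ρ (E.wv u) (ρ (E.wv (sgl 0 d)) v.1) = β • ρ (E.wv (sgl 0 d)) v.1
      rw [wv_comm E ψ ρ v.2, (hcom u _ h0 h1).1, (hcom u _ h0 h1).2, sub_self, AddChar.map_zero_eq_one, one_smul,
        ← hβ', map_smul]
    intro u h0 h1 w hw
    obtain ⟨y, hy0, hy1, hy⟩ : ∃ y : Fin (m + 3) → F × F, y 0 = 0 ∧ y 1 = 0 ∧ ∀ i, E.rot (y i) - y i = u i := by
      choose y' hy' using fun i => E.rot_surj (u i)
      refine ⟨fun i => if i = 0 ∨ i = 1 then 0 else y' i, by simp, by simp, fun i => ?_⟩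
      by_cases hi : i = 0 ∨ i = 1
      · rcases hi with rfl | rfl <;> simp [h0, h1]
      · simpa [hi] using hy' i
    obtain ⟨β, hb⟩ := hβ u h0 h1
    obtain ⟨γ, hg⟩ := hβ y hy0 hy1
    set y₂ : Fin (m + 3) → F × F := fun i => E.rot (y i) with hy₂
    have e : y₂ = u + y := funext fun i => by
      show E.rot (y i) = u i + y i
      rw [← hy i, sub_add_cancel]
    have hne : ρ E.h v.1 ≠ 0 := fun h => hv0 (Subtype.ext (rep_injective ρ E.h (h.trans (map_zero _).symm)))
    have k1 : ρ (E.wv y₂) (ρ E.h v.1) = γ • ρ E.h v.1 := by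
      rw [← Module.End.mul_apply, ← map_mul, ← E.h_wv, map_mul, Module.End.mul_apply, hg _ v.2, map_smul]
    have k2 : ρ (E.wv u) (ρ (E.wv y) (ρ E.h v.1)) = ρ (E.wv y₂) (ρ E.h v.1) := by
      rw [wv_prod E ψ ρ (h_eigK E ψ ρ v.2), (hcom u y h0 h1).1, AddChar.map_zero_eq_one, one_smul, e]
    rw [k1, hg _ (h_eigK E ψ ρ v.2), map_smul, hb _ (h_eigK E ψ ρ v.2), smul_smul] at k2
    have hγ : γ ≠ 0 := fun h => by
      have := hg v.1 v.2
      rw [h, zero_smul] at this
      exact hv0 (Subtype.ext (rep_injective ρ (E.wv y) (this.trans (map_zero _).symm)))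
    have hb1 : β = 1 := by
      have h3 := smul_left_injective ℂ hne k2
      exact mul_left_cancel₀ hγ (h3.trans (mul_one γ).symm)
    rw [hb w hw, hb1, one_smul]
  -- transvections
  have hK : ∀ (t : Fin (m + 3) → F) (ht : t ⬝ᵥ e 0 = 0), act (tv (e 0) t ht).1 (K0t m F) = K0t m F := fun t ht => by
    rw [K0t, act_wedge, ← smul_eq, ← smul_eq, tv_apply, tv_apply, ht, zero_smul, add_zero]
    refine Subtype.ext (Matrix.ext fun i j => ?_)
    simp only [wedge_apply, Pi.add_apply, Pi.smul_apply, smul_eq_mul]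
    ring
  have hline : ∀ (t : Fin (m + 3) → F) (ht : t ⬝ᵥ e 0 = 0), ∃ l : ℂ, ρ (E.L (tv (e 0) t ht)) v.1 = l • v.1 := by
    intro t ht
    have hmemK : ρ (E.L (tv (e 0) t ht)) v.1 ∈ eigK E ψ ρ (K0t m F) := by
      have := move_eigK E ψ ρ (E.hL (tv (e 0) t ht)) v.2
      rwa [hK t ht] at this
    have hmem : (⟨_, hmemK⟩ : eigK E ψ ρ (K0t m F)) ∈ eig φ ⊤ (1 : AddChar (F × F) ℂ) := by
      refine (mem_eigA E ψ ρ).2 fun c => ?_
      show ρ (E.wv (sgl 1 c)) _ = _
      have etv : mv ((tv (e 0) t ht)⁻¹).1ᵀ (sgl 1 c) = sgl 1 c := by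
        rw [mv_tv]
        funext i
        rw [sgl_ne h01, smul_zero, sub_zero]
      rw [AddChar.one_apply, one_smul, ← Module.End.mul_apply, ← map_mul]
      have h3 := E.hLw (tv (e 0) t ht) (sgl 1 c)
      rw [etv] at h3
      rw [← h3, map_mul, Module.End.mul_apply, hvc]
    obtain ⟨l, hl⟩ := (finrank_eq_one_iff_of_nonzero' (⟨v, hv⟩ : eig φ ⊤ (1 : AddChar (F × F) ℂ))
      (fun h => hv0 (congrArg Subtype.val h))).1 (hone 1) ⟨_, hmem⟩
    exact ⟨l, (congrArg (fun z : eig φ ⊤ (1 : AddChar (F × F) ℂ) => (z.1.1 : Fin k → ℂ)) hl).symm⟩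
  choose l hl using hline
  have htrans : ∀ (t : Fin (m + 3) → F) (ht : t ⬝ᵥ e 0 = 0) (d : F × F),
      ρ (E.L (tv (e 0) t ht)) (vb d).1 = (l t ht * ψ (-(t 1 * binForm a b d))) • (vb d).1 := by
    intro t ht d
    have ht0 : t 0 = 0 := by simpa using ht
    show ρ (E.L _) (ρ (E.wv (sgl 0 d)) v.1) = _
    rw [← Module.End.mul_apply, ← map_mul, E.hLw, mv_tv, map_mul, Module.End.mul_apply, hl, map_smul]
    set rest : Fin (m + 3) → F × F := fun i => -(t i • d) with hrest
    have e1 : (fun i => sgl (r := m + 3) 0 d i - t i • sgl (r := m + 3) 0 d 0) = sgl 0 d + rest := funext fun i => by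
      simp only [Pi.add_apply, hrest, sgl_same, sub_eq_add_neg]
    set R' : Fin (m + 3) → F × F := rest - sgl 1 (rest 1) with hR'
    have hrest0 : rest 0 = 0 := by simp [hrest, ht0]
    have hR0 : R' 0 = 0 := by rw [hR', Pi.sub_apply, hrest0, sgl_ne h01, sub_zero]
    have hR1 : R' 1 = 0 := by rw [hR', Pi.sub_apply, sgl_same, sub_self]
    have e2 : ρ (E.wv rest) v.1 = v.1 := by
      have h3 := wv_prod E ψ ρ v.2 (sgl 1 (rest 1)) R'
      rw [hR R' hR0 hR1 v.1 v.2, hvc, pair_K0_Dm, hR0, hR1, bb_zero_left, bb_zero_left, sub_zero,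
        AddChar.map_zero_eq_one, one_smul] at h3
      have e3 : sgl 1 (rest 1) + R' = rest := by rw [hR', add_sub_cancel]
      rw [e3] at h3
      exact h3.symm
    have h3 := wv_prod E ψ ρ v.2 (sgl 0 d) rest
    rw [e2, pair_K0_Dm, hrest0, bb_zero_left, zero_sub, sgl_same] at h3
    have e4 : -bb a b (rest 1) d = t 1 * binForm a b d := by
      rw [hrest]
      show -bb a b (-(t 1 • d)) d = _
      rw [← neg_smul, bb_smul_left, bb_diag]
      ring
    rw [e4] at h3
    show l t ht • ρ (E.wv _) v.1 = (l t ht * _) • ρ (E.wv (sgl 0 d)) v.1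
    rw [e1, mul_smul]
    congr 1
    rw [h3, smul_smul, ← AddChar.map_add_eq_mul, neg_add_cancel, AddChar.map_zero_eq_one, one_smul]
  have lmul : ∀ t t' ht ht' htt', l (t + t') htt' = l t ht * l t' ht' := by
    intro t t' ht ht' htt'
    have h3 : ρ (E.L (tv (e 0) t ht)) (ρ (E.L (tv (e 0) t' ht')) v.1) = l (t + t') htt' • v.1 := by
      rw [← Module.End.mul_apply, ← map_mul, ← map_mul, tv_mul_right, hl]
    rw [hl, map_smul, hl, smul_smul, mul_comm] at h3
    exact (smul_left_injective ℂ (fun h => hv0 (Subtype.ext h)) h3).symm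
  have lne : ∀ t ht, l t ht ≠ 0 := fun t ht h => by
    have := hl t ht
    rw [h, zero_smul] at this
    exact hv0 (Subtype.ext (rep_injective ρ _ (this.trans (map_zero _).symm)))
  -- the transvections with vanishing second coefficient
  have lone : ∀ t ht, t 1 = 0 → l t ht = 1 := by
    intro t ht ht1
    have ht0 : t 0 = 0 := by simpa using ht
    have hscal : ∀ w ∈ eigK E ψ ρ (K0t m F), ρ (E.L (tv (e 0) t ht)) w = l t ht • w := fun w hw =>
      hext (ρ (E.L (tv (e 0) t ht))) (l t ht • 1) (fun d => by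
        rw [htrans, ht1, zero_mul, neg_zero, AddChar.map_zero_eq_one, mul_one]; rfl) w hw
    have he1 : t ⬝ᵥ (e 1 : Fin (m + 3) → F) = 0 := by simp [ht1]
    have hconj : ∀ M : SLn (m + 3) F, act M.1 (K0t m F) = K0t m F → pull M t = t →
        ∀ (hM : t ⬝ᵥ M • (e 0 : Fin (m + 3) → F) = 0), ∀ w ∈ eigK E ψ ρ (K0t m F),
          ρ (E.L (tv (M • e 0) t hM)) w = l t ht • w := by
      intro M hMK hpull hM w hw
      have hinvK : act (M⁻¹).1 (K0t m F) = K0t m F := by
        conv_lhs => rw [← hMK]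
        rw [← act_mul, ← Matrix.SpecialLinearGroup.coe_mul, inv_mul_cancel, Matrix.SpecialLinearGroup.coe_one, act_one]
      have hw' : ρ (E.L M⁻¹) w ∈ eigK E ψ ρ (K0t m F) := by
        have := move_eigK E ψ ρ (E.hL M⁻¹) hw
        rwa [hinvK] at this
      have e : tv (M • (e 0 : Fin (m + 3) → F)) t hM = M * tv (e 0) t ht * M⁻¹ := by
        rw [eq_mul_inv_iff_mul_eq, ← conj_tv M (e 0) t hM, tv_congr _ ht rfl hpull]
      rw [e, map_mul, map_mul, map_mul, map_mul, Module.End.mul_apply, Module.End.mul_apply, hscal _ hw', map_smul,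
        ← Module.End.mul_apply, ← map_mul, ← map_mul, mul_inv_cancel, map_one, map_one, Module.End.one_apply]
    let M₁ : SLn (m + 3) F := tv (e 1) (e 0) (by simp)
    let M₂ : SLn (m + 3) F := tv (e 0) (-e 1) (by simp)
    have hM₁ : M₁ • (e 0 : Fin (m + 3) → F) = e 0 + e 1 := by simp [M₁, tv_apply]
    have hM₁1 : M₁ • (e 1 : Fin (m + 3) → F) = e 1 := by simp [M₁, tv_apply]
    have hM₂ : (M₂ * M₁) • (e 0 : Fin (m + 3) → F) = e 1 := by
      rw [mul_smul, hM₁, tv_apply]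
      simp [dotProduct_add]
    have hM₂1 : (M₂ * M₁) • (e 1 : Fin (m + 3) → F) = e 1 - e 0 := by
      rw [mul_smul, hM₁1, tv_apply]
      simp [sub_eq_add_neg]
    have hK1 : act M₁.1 (K0t m F) = K0t m F := by
      rw [K0t, act_wedge, ← smul_eq, ← smul_eq, hM₁, hM₁1]
      refine Subtype.ext (Matrix.ext fun i j => ?_)
      simp only [wedge_apply, Pi.add_apply]
      ring
    have hK2 : act (M₂ * M₁).1 (K0t m F) = K0t m F := by
      rw [K0t, act_wedge, ← smul_eq, ← smul_eq, hM₂, hM₂1]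
      refine Subtype.ext (Matrix.ext fun i j => ?_)
      simp only [wedge_apply, Pi.sub_apply]
      ring
    have hp1 : pull M₁ t = t := funext fun j => by
      have := pull_dot M₁ t (e j)
      rw [dotProduct_single, mul_one, tv_apply, dotProduct_add, dotProduct_smul, he1, smul_zero, add_zero,
        dotProduct_single, mul_one] at this
      exact this
    have hp2 : pull (M₂ * M₁) t = t := by
      rw [← pull_pull]
      have : pull M₂ t = t := funext fun j => by
        have := pull_dot M₂ t (e j)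
        rw [dotProduct_single, mul_one, tv_apply, dotProduct_add, dotProduct_smul, ht, smul_zero, add_zero,
          dotProduct_single, mul_one] at this
        exact this
      rw [this, hp1]
    have hm1 : t ⬝ᵥ M₁ • (e 0 : Fin (m + 3) → F) = 0 := by rw [hM₁, dotProduct_add, ht, he1, add_zero]
    have hm2 : t ⬝ᵥ (M₂ * M₁) • (e 0 : Fin (m + 3) → F) = 0 := by rw [hM₂, he1]
    have s1 := hconj M₁ hK1 hp1 hm1 v.1 v.2
    have s2 := hconj (M₂ * M₁) hK2 hp2 hm2 v.1 v.2
    have e3 : tv (M₁ • (e 0 : Fin (m + 3) → F)) t hm1 =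
        tv (e 0) t ht * tv ((M₂ * M₁) • (e 0 : Fin (m + 3) → F)) t hm2 := by
      rw [tv_mul_left]
      exact tv_congr _ _ (by rw [hM₁, hM₂]) rfl
    rw [e3, map_mul, map_mul, Module.End.mul_apply, s2, map_smul, hl, smul_smul] at s1
    have h4 := smul_left_injective ℂ (fun h => hv0 (Subtype.ext h)) s1
    exact mul_left_cancel₀ (lne t ht) (h4.trans (mul_one _).symm)
  -- the second coefficient
  have he10 : ∀ s : F, (s • e 1 : Fin (m + 3) → F) ⬝ᵥ e 0 = 0 := fun s => by simp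
  let μ : AddChar F ℂ :=
    { toFun := fun s => l (s • e 1) (he10 s)
      map_zero_eq_one' := lone _ _ (by simp)
      map_add_eq_mul' := fun s s' => by
        have h3 := lmul (s • e 1) (s' • e 1) (he10 s) (he10 s') (by rw [add_dotProduct, he10, he10, add_zero])
        rw [← h3]
        congr 1
        rw [add_smul] }
  obtain ⟨c₀, hc₀⟩ := exists_scalar_char hψ μ
  obtain ⟨⟨d₁, d₂⟩, hd⟩ := binForm_surjective hab c₀
  set d : F × F := (d₁, d₂)
  have hfix : ∀ (t : Fin (m + 3) → F) (ht : t ⬝ᵥ e 0 = 0), ρ (E.L (tv (e 0) t ht)) (vb d).1 = (vb d).1 := by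
    intro t ht
    have ht0 : t 0 = 0 := by simpa using ht
    have hr : (t - t 1 • e 1) ⬝ᵥ e 0 = 0 := by rw [sub_dotProduct, ht, he10, sub_zero]
    have hl' : l t ht = ψ (t 1 * c₀) := by
      have h3 := lmul (t 1 • e 1) (t - t 1 • e 1) (he10 _) hr (by rw [add_sub_cancel]; exact ht)
      have h4 : l t ht = l (t 1 • e 1 + (t - t 1 • e 1)) (by rw [add_sub_cancel]; exact ht) := by
        congr 1
        rw [add_sub_cancel]
      rw [h4, h3, lone _ hr (by simp), mul_one]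
      exact hc₀ (t 1)
    rw [htrans, hl', ← AddChar.map_add_eq_mul, hd, add_neg_cancel, AddChar.map_zero_eq_one, one_smul]
  -- the contradiction
  have hvb : (vb d).1 ≠ 0 := fun h => hv0 (Subtype.ext (rep_injective ρ _ (h.trans (map_zero _).symm)))
  have hle : eigK E ψ ρ 0 ⊔ Submodule.span ℂ {(vb d).1} ≤ eigK E ψ ρ' 0 := by
    refine sup_le (fun w hw => ?_) (Submodule.span_le.2 (Set.singleton_subset_iff.2 ?_))
    · refine (mem_eigK E ψ ρ').2 fun B => ?_
      obtain ⟨C, t, ht, -, hB⟩ := E.th_x B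
      show ρ (E.th (E.x B)) w = _
      rw [hB, map_mul, Module.End.mul_apply, hcon _ w hw, (mem_eigK E ψ ρ).1 hw, pair_zero_left, pair_zero_left]
    · refine (mem_eigK E ψ ρ').2 fun B => ?_
      obtain ⟨C, t, ht, hC, hB⟩ := E.th_x B
      show ρ (E.th (E.x B)) (vb d).1 = _
      rw [hB, map_mul, Module.End.mul_apply, hfix, (mem_eigK E ψ ρ).1 (vb d).2, pair_K0t, hC, pair_zero_left]
  have hdis : eigK E ψ ρ 0 ⊓ Submodule.span ℂ {(vb d).1} = ⊥ := by
    refine (Submodule.eq_bot_iff _).2 fun w hw => ?_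
    obtain ⟨c, rfl⟩ := Submodule.mem_span_singleton.1 hw.2
    by_contra hc
    have hc0 : c ≠ 0 := fun h => hc (by rw [h, zero_smul])
    refine hψ (DFunLike.ext _ _ fun s => ?_)
    have e1 := (mem_eigK E ψ ρ).1 hw.1 (wedge (s • e 0) (e 1))
    rw [pair_zero_left, AddChar.map_zero_eq_one, one_smul, map_smul, (mem_eigK E ψ ρ).1 (vb d).2, pair_K0t,
      smul_comm, wedge_apply] at e1
    have e2 : ψ s • (c • (vb d).1) = (1 : ℂ) • (c • (vb d).1) := by
      rw [one_smul]
      simpa using e1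
    exact smul_left_injective ℂ (smul_ne_zero hc0 hvb) e2
  have h3 := Submodule.finrank_sup_add_finrank_inf_eq (eigK E ψ ρ 0) (Submodule.span ℂ {(vb d).1})
  rw [hdis, finrank_bot, add_zero, finrank_span_singleton hvb] at h3
  have h4 := Submodule.finrank_mono hle
  omega

end Cfsg.Agent.OrthMinus
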