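import Cfsg.Agent.SUDeg.Eigen

/-!
Traces of operators permuting the eigenspaces of a finite abelian group.
-/

set_option autoImplicit false
set_option linter.unusedSectionVars false

namespace Cfsg.Agent.OrthMinus

open Module SUDeg

variable {A W : Type*} [AddCommGroup A] [Finite A] [AddCommGroup W] [Module ℂ W] [FiniteDimensional ℂ W]
variable (φ : AddChar A (Module.End ℂ W))

theorem proj_top_mem (χ : AddChar A ℂ) (v : W) : proj φ χ v ∈ eig φ ⊤ χ :=
  proj_mem (C := ⊤) (fun _ _ _ => Submodule.mem_top) χ Submodule.mem_top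

theorem proj_proj_self (χ : AddChar A ℂ) (v : W) : proj φ χ (proj φ χ v) = proj φ χ v := by
  classical
  rw [proj_of_mem (proj_top_mem φ χ v), if_pos rfl]

/-- The trace of a projection is the dimension of the eigenspace. -/
theorem trace_proj (χ : AddChar A ℂ) : LinearMap.trace ℂ W (proj φ χ) = finrank ℂ (eig φ ⊤ χ) := by
  classical
  exact LinearMap.IsProj.trace ⟨proj_top_mem φ χ, fun v hv => by rw [proj_of_mem hv, if_pos rfl]⟩

/-- The trace splits along the eigenspaces. -/
theorem trace_eq_sum [Fintype (AddChar A ℂ)] (T : Module.End ℂ W) :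
    LinearMap.trace ℂ W T = ∑ χ, LinearMap.trace ℂ W (T * proj φ χ) := by
  classical
  rw [← map_sum]
  congr 1
  refine LinearMap.ext fun v => ?_
  obtain ⟨i, hi⟩ := sum_proj (φ := φ) v
  rw [LinearMap.sum_apply]
  simp only [Module.End.mul_apply]
  rw [← map_sum]
  congr 1
  convert hi.symm

/-- An operator moving an eigenspace to another one has no trace there. -/
theorem trace_moved {T : Module.End ℂ W} {χ χ' : AddChar A ℂ} (h : ∀ v ∈ eig φ ⊤ χ, T v ∈ eig φ ⊤ χ')
    (hne : χ ≠ χ') : LinearMap.trace ℂ W (T * proj φ χ) = 0 := by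
  classical
  have e1 : T * proj φ χ = (T * proj φ χ) * proj φ χ :=
    LinearMap.ext fun v => congrArg T (proj_proj_self φ χ v).symm
  have e2 : proj φ χ * (T * proj φ χ) = 0 := LinearMap.ext fun v => by
    show proj φ χ (T (proj φ χ v)) = 0
    rw [proj_of_mem (h _ (proj_top_mem φ χ v)), if_neg hne]
  rw [e1, LinearMap.trace_mul_comm, e2, map_zero]

/-- The trace of the operators of the group on an eigenspace. -/
theorem trace_scalar (χ : AddChar A ℂ) (x : A) :
    LinearMap.trace ℂ W (φ x * proj φ χ) = χ x * finrank ℂ (eig φ ⊤ χ) := by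
  have e : φ x * proj φ χ = χ x • proj φ χ := LinearMap.ext fun v => (mem_eig.1 (proj_top_mem φ χ v)).2 x
  rw [e, map_smul, trace_proj, smul_eq_mul]

variable {B : Type*} [AddCommGroup B] [Fintype B] (θ : AddChar B (Module.End ℂ W))

/-- The dimension of an eigenspace from the traces. -/
theorem finrank_eig_eq (η : AddChar B ℂ) :
    (finrank ℂ (eig θ ⊤ η) : ℂ) = (Fintype.card B : ℂ)⁻¹ * ∑ b, η (-b) * LinearMap.trace ℂ W (θ b) := by
  rw [← trace_proj, show proj θ η = (Fintype.card B : ℂ)⁻¹ • ∑ b, η (-b) • θ b from LinearMap.ext fun v => by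
    rw [proj_apply]; simp [LinearMap.sum_apply, LinearMap.smul_apply], map_smul, map_sum, smul_eq_mul]
  simp

/-- The dimension of an eigenspace inside an invariant eigenspace. -/
theorem finrank_eig_sub (χ : AddChar A ℂ) (h : ∀ b, ∀ v ∈ eig φ ⊤ χ, θ b v ∈ eig φ ⊤ χ) (η : AddChar B ℂ) :
    (finrank ℂ (eig θ (eig φ ⊤ χ) η) : ℂ) =
      (Fintype.card B : ℂ)⁻¹ * ∑ b, η (-b) * LinearMap.trace ℂ W (θ b * proj φ χ) := by
  classical
  have hp : LinearMap.IsProj (eig θ (eig φ ⊤ χ) η) (proj θ η * proj φ χ) :=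
    ⟨fun v => proj_mem h η (proj_top_mem φ χ v), fun v hv => by
      show proj θ η (proj φ χ v) = v
      rw [proj_of_mem (mem_eig.1 hv).1, if_pos rfl, proj_of_mem hv, if_pos rfl]⟩
  rw [← hp.trace, show proj θ η * proj φ χ = (Fintype.card B : ℂ)⁻¹ • ∑ b, η (-b) • (θ b * proj φ χ) from
    LinearMap.ext fun v => by
      show proj θ η (proj φ χ v) = _
      rw [proj_apply]; simp [LinearMap.sum_apply, LinearMap.smul_apply], map_smul, map_sum, smul_eq_mul]
  simp

end Cfsg.Agent.OrthMinus
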