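import Cfsg.Agent.OrthMinus.Outer
import Cfsg.Agent.OrthMinus.Small
import Cfsg.Agent.OrthMinus.Trace
import Cfsg.Agent.Char.Integral

/-!
The degree in dimension ten over the field of two elements.
-/

set_option autoImplicit false
set_option linter.unusedSectionVars false

namespace Cfsg.Agent.OrthMinus

open Matrix Module SLDeg OrthDeg QuadraticMap Classical.Quad SUDeg

variable {F : Type*} [Field F] [Fintype F] {a b : F}

section Defect

variable {m : ℕ} {G : Type*} [Group G] (E : HFrame m F a b G) {ψ : AddChar F ℂ} {k : ℕ}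
variable (ρ : Representation ℂ G (Fin k → ℂ))

/-- The value of the character on the centre of the radical. -/
theorem char_x (hψ : ψ ≠ 1) (B : AltM (m + 3) F) :
    ρ.character (E.x B) = ∑ K, (finrank ℂ (eigK E ψ ρ K) : ℂ) * ψ (pair K B) := by
  classical
  show LinearMap.trace ℂ _ (phx E ρ B) = _
  rw [trace_eq_sum (phx E ρ)]
  refine ((Fintype.sum_bijective _ (lamT_bijective (m := m) hψ) _ _ fun K => ?_).symm)
  rw [trace_scalar, mul_comm]
  rfl

/-- The defect of the character at a long root element. -/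
theorem defect_eq (hψ : ψ ≠ 1) {c : ℕ} [Fintype (O2t m F)]
    (h1 : ∀ K, K ≠ 0 → (K ∈ O2t m F → finrank ℂ (eigK E ψ ρ K) = c) ∧
      (K ∉ O2t m F → finrank ℂ (eigK E ψ ρ K) = 0)) :
    (k : ℂ) - ρ.character (E.x (K0t m F)) = (c : ℂ) * ∑ K : O2t m F, (1 - ψ (K.1.1 0 1)) := by
  classical
  rw [char_x E ρ hψ]
  have hk : (k : ℂ) = ∑ K, (finrank ℂ (eigK E ψ ρ K) : ℂ) := by rw [← Nat.cast_sum, sum_eigK E ρ hψ]
  rw [hk, ← Finset.sum_sub_distrib, ← Finset.sum_subset (Finset.subset_univ (O2t m F).toFinset)]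
  · rw [Finset.mul_sum, Finset.sum_subtype (p := fun K => K ∈ O2t m F) _ (fun K => Set.mem_toFinset)
      fun K => (finrank ℂ (eigK E ψ ρ K) : ℂ) - (finrank ℂ (eigK E ψ ρ K) : ℂ) * ψ (pair K (K0t m F))]
    refine Finset.sum_congr rfl fun K _ => ?_
    have hK : K.1 ≠ 0 := by
      obtain ⟨A, hA⟩ := K.2
      intro h0
      exact K0t_ne (act_injective (show IsUnit A.1.det by rw [A.2]; exact isUnit_one)
        ((hA.trans h0).trans (map_zero (act A.1)).symm))
    rw [(h1 K.1 hK).1 K.2, pair_comm, pair_K0t, mul_sub, mul_one]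
  · intro K _ hK
    by_cases h0 : K = 0
    · simp [h0, pair_zero_left]
    · rw [(h1 K h0).2 fun h => hK (Set.mem_toFinset.2 h)]
      simp

end Defect

variable (hab : ∀ z₁ z₂ : F, z₁ ^ 2 + a * z₁ * z₂ + b * z₂ ^ 2 = 0 → z₁ = 0 ∧ z₂ = 0)

/-- The last two pairs. -/
def tl2 (p : Sp 4 F) : Sp 2 F := ((fun j => p.1.1 j.succ.succ, fun j => p.1.2 j.succ.succ), p.2)

/-- Replacing the last two pairs. -/
def put2 (p : Sp 4 F) (z : Sp 2 F) : Sp 4 F :=
  ((Fin.cons (p.1.1 0) (Fin.cons (p.1.1 1) z.1.1), Fin.cons (p.1.2 0) (Fin.cons (p.1.2 1) z.1.2)), z.2)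

theorem put2_tl2 (p : Sp 4 F) : put2 p (tl2 p) = p := by
  refine Prod.ext (Prod.ext (funext fun i => ?_) (funext fun i => ?_)) rfl <;> fin_cases i <;> rfl

theorem tl2_put2 (p : Sp 4 F) (z : Sp 2 F) : tl2 (put2 p z) = z := rfl

include hab in
theorem exists_inner2 (g : oG (hyp (binForm a b) 2)) :
    ∃ h : OM 4 a b, ∀ p, h.1 p = put2 p (g.1 (tl2 p)) := by
  let f : Sp 4 F →ₗ[F] Sp 4 F :=
    { toFun := fun p => put2 p (g.1 (tl2 p))
      map_add' := fun p p' => by
        have e : tl2 (p + p') = tl2 p + tl2 p' := rfl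
        rw [e, map_add]
        refine Prod.ext (Prod.ext (funext fun i => ?_) (funext fun i => ?_)) rfl <;> fin_cases i <;> rfl
      map_smul' := fun c p => by
        have e : tl2 (c • p) = c • tl2 p := rfl
        rw [e, map_smul]
        refine Prod.ext (Prod.ext (funext fun i => ?_) (funext fun i => ?_)) rfl <;> fin_cases i <;> rfl }
  refine ⟨oOf hab f fun p => ?_, fun p => rfl⟩
  have h := g.2 (tl2 p)
  rw [hyp_apply, hyp_apply] at h
  rw [hyp_apply, hyp_apply, Fin.sum_univ_succ, Fin.sum_univ_succ, Fin.sum_univ_succ (f := fun i => p.1.1 i * p.1.2 i),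
    Fin.sum_univ_succ (f := fun i : Fin 3 => p.1.1 i.succ * p.1.2 i.succ)]
  simp only [add_assoc]
  exact congrArg₂ (· + ·) rfl (congrArg₂ (· + ·) rfl h)

/-- The embedding of the isometries of the last two pairs. -/
noncomputable def inner2 : oG (hyp (binForm a b) 2) →* OM 4 a b :=
  MonoidHom.mk' (fun g => (exists_inner2 hab g).choose) fun g g' => ext_oG fun p => by
    rw [oG_mul_apply, (exists_inner2 hab (g * g')).choose_spec, (exists_inner2 hab g').choose_spec,
      (exists_inner2 hab g).choose_spec, oG_mul_apply]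
    rfl

theorem inner2_apply (g : oG (hyp (binForm a b) 2)) (p : Sp 4 F) :
    (inner2 hab g).1 p = put2 p (g.1 (tl2 p)) := (exists_inner2 hab g).choose_spec p

theorem K0t_mulVec (U : Fin 4 → F) : (K0t 1 F).1 *ᵥ U = ![U 1, -U 0, 0, 0] := by
  funext i
  fin_cases i <;> simp [K0t, wedge_apply, Matrix.mulVec, dotProduct, Fin.sum_univ_four, Pi.single_apply]

set_option maxHeartbeats 4000000 in
include hab in
/-- The class of a long root element has small odd part. -/
theorem index_centralizer_dvd (hF : Fintype.card F = 2) {E : HFrame 1 F a b (OmM 4 a b)}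
    (hx : ∀ B, (E.x B).1 = xO' hab B) :
    (Subgroup.centralizer ({E.x (K0t 1 F)} : Set (OmM 4 a b))).index ∣ 2 ^ 20 * 19635 := by
  classical
  haveI : Finite (OM 4 a b) := Finite.of_injective (fun g => fun x => g.1 x) fun g h e => ext_oG (congrFun e)
  have h2 : (2 : F) = 0 := by
    have h := FiniteField.cast_card_eq_zero F
    rw [hF] at h
    exact_mod_cast h
  set x₀ : OM 4 a b := xO' hab (K0t 1 F)
  set C₀ := Subgroup.centralizer ({x₀} : Set (OM 4 a b))
  set C := Subgroup.centralizer ({E.x (K0t 1 F)} : Set (OmM 4 a b))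
  -- the subgroup in the centraliser
  let A : SLn 4 F := Matrix.SpecialLinearGroup.transvection (show (1 : Fin 4) ≠ 0 by decide) (1 : F) *
    Matrix.SpecialLinearGroup.transvection (show (0 : Fin 4) ≠ 1 by decide) (1 : F)
  have hA1 : A.1 = !![1, 1, 0, 0; 1, 0, 0, 0; 0, 0, 1, 0; 0, 0, 0, 1] := by
    simp only [A, Matrix.SpecialLinearGroup.coe_mul, Matrix.SpecialLinearGroup.transvection_coe]
    ext i j
    fin_cases i <;> fin_cases j <;>
      simp [Matrix.mul_apply, Fin.sum_univ_four, Matrix.single, Matrix.one_apply] <;> linear_combination h2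
  have hA2 : (A ^ 2).1 = !![0, 1, 0, 0; 1, 1, 0, 0; 0, 0, 1, 0; 0, 0, 0, 1] := by
    rw [pow_two, Matrix.SpecialLinearGroup.coe_mul, hA1]
    ext i j
    fin_cases i <;> fin_cases j <;> simp [Matrix.mul_apply, Fin.sum_univ_four] <;> linear_combination h2
  have hA3 : A ^ 3 = 1 := Subtype.ext (by
    rw [pow_succ, Matrix.SpecialLinearGroup.coe_mul, hA2, hA1, Matrix.SpecialLinearGroup.coe_one]
    ext i j
    fin_cases i <;> fin_cases j <;> simp [Matrix.mul_apply, Fin.sum_univ_four] <;> linear_combination h2)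
  have hord : orderOf A = 3 := by
    haveI : Fact (Nat.Prime 3) := ⟨Nat.prime_three⟩
    refine orderOf_eq_prime hA3 fun h => ?_
    simpa [hA1] using congrArg (fun M : SLn 4 F => M.1 1 1) h
  let S := Subgroup.zpowers A
  have hS : ∀ M ∈ S, M = 1 ∨ M = A ∨ M = A ^ 2 := by
    intro M hM
    obtain ⟨i, hi⟩ := (IsOfFinOrder.mem_powers_iff_mem_zpowers (isOfFinOrder_of_finite A)).2 hM
    have : M = A ^ (i % 3) := by rw [← hord, pow_mod_orderOf]; exact hi.symm
    have h3 := Nat.mod_lt i (show 3 > 0 by norm_num)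
    interval_cases (i % 3) <;> simp_all
  have hblock : ∀ M ∈ S, ∀ U : Fin 4 → F, (M.1 *ᵥ U) 2 = U 2 ∧ (M.1 *ᵥ U) 3 = U 3 ∧
      (M.1ᵀ *ᵥ U) 2 = U 2 ∧ (M.1ᵀ *ᵥ U) 3 = U 3 ∧
      (M.1 *ᵥ U) 0 = M.1 0 0 * U 0 + M.1 0 1 * U 1 ∧ (M.1 *ᵥ U) 1 = M.1 1 0 * U 0 + M.1 1 1 * U 1 ∧
      (M.1ᵀ *ᵥ U) 0 = M.1 0 0 * U 0 + M.1 1 0 * U 1 ∧ (M.1ᵀ *ᵥ U) 1 = M.1 0 1 * U 0 + M.1 1 1 * U 1 := by
    intro M hM U
    rcases hS M hM with rfl | rfl | rfl <;>
      simp [hA2, hA1, Matrix.mulVec, dotProduct, Fin.sum_univ_four]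
  have hLI : ∀ M ∈ S, ∀ g, Commute (LO' hab M) (inner2 hab g) := by
    intro M hM g
    refine ext_oG fun p => ?_
    rw [oG_mul_apply, oG_mul_apply, LO'_apply, inner2_apply, inner2_apply, LO'_apply]
    have hi : M⁻¹ ∈ S := inv_mem hM
    have et : tl2 ((M.1 *ᵥ p.1.1, (M⁻¹).1ᵀ *ᵥ p.1.2), p.2) = tl2 p := by
      refine Prod.ext (Prod.ext (funext fun j => ?_) (funext fun j => ?_)) rfl <;> fin_cases j
      · exact (hblock M hM _).1
      · exact (hblock M hM _).2.1
      · exact (hblock M⁻¹ hi _).2.2.1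
      · exact (hblock M⁻¹ hi _).2.2.2.1
    rw [et]
    set z := g.1 (tl2 p)
    refine Prod.ext (Prod.ext (funext fun j => ?_) (funext fun j => ?_)) rfl <;> fin_cases j
    · exact (hblock M hM (put2 p z).1.1).2.2.2.2.1.trans (hblock M hM p.1.1).2.2.2.2.1.symm
    · exact (hblock M hM (put2 p z).1.1).2.2.2.2.2.1.trans (hblock M hM p.1.1).2.2.2.2.2.1.symm
    · exact (hblock M hM _).1
    · exact (hblock M hM _).2.1
    · exact (hblock M⁻¹ hi (put2 p z).1.2).2.2.2.2.2.2.1.trans (hblock M⁻¹ hi p.1.2).2.2.2.2.2.2.1.symm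
    · exact (hblock M⁻¹ hi (put2 p z).1.2).2.2.2.2.2.2.2.trans (hblock M⁻¹ hi p.1.2).2.2.2.2.2.2.2.symm
    · exact (hblock M⁻¹ hi _).2.2.1
    · exact (hblock M⁻¹ hi _).2.2.2.1
  let Φ : S × oG (hyp (binForm a b) 2) →* OM 4 a b :=
    MonoidHom.noncommCoprod ((LO' hab).comp S.subtype) (inner2 hab) fun M g => hLI M.1 M.2 g
  have hΦ : ∀ t, Φ t ∈ C₀ := by
    rintro ⟨⟨M, hM⟩, g⟩
    refine mul_mem ?_ ?_ <;> rw [Subgroup.mem_centralizer_singleton_iff]
    · have e : act M.1ᵀ (K0t 1 F) = K0t 1 F := by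
        rw [K0t, act_wedge]
        refine Subtype.ext (Matrix.ext fun i j => ?_)
        rcases hS M hM with rfl | rfl | rfl <;> fin_cases i <;> fin_cases j <;>
          simp [hA2, hA1, wedge_apply, Matrix.mulVec, dotProduct, Fin.sum_univ_four, Pi.single_apply] <;>
          first | linear_combination h2 | linear_combination -h2
      have h := LO'_xO hab M (K0t 1 F)
      rw [e] at h
      exact h
    · refine ext_oG fun p => ?_
      show (inner2 hab g).1 (x₀.1 p) = x₀.1 ((inner2 hab g).1 p)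
      rw [inner2_apply, inner2_apply, xO'_apply, xO'_apply, K0t_mulVec, K0t_mulVec]
      have et : tl2 ((p.1.1, p.1.2 + ![p.1.1 1, -p.1.1 0, 0, 0]), p.2) = tl2 p := by
        refine Prod.ext (Prod.ext rfl (funext fun j => ?_)) rfl
        fin_cases j <;> exact add_zero _
      rw [et]
      refine Prod.ext (Prod.ext rfl (funext fun j => ?_)) rfl
      fin_cases j
      · rfl
      · rfl
      · exact (add_zero _).symm
      · exact (add_zero _).symm
  have hinj : Function.Injective (Φ.codRestrict C₀ hΦ) := by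
    refine (injective_iff_map_eq_one _).2 ?_
    rintro ⟨⟨M, hM⟩, g⟩ h
    have h1 : LO' hab M * inner2 hab g = 1 := congrArg Subtype.val h
    have hp : ∀ p, (LO' hab M).1 ((inner2 hab g).1 p) = p := fun p => by rw [← oG_mul_apply, h1, oG_one_apply]
    have hM1 : M = 1 := by
      have h00 := congrArg (fun p : Sp 4 F => p.1.1 0) (hp ((e 0, 0), 0))
      have h00' : M.1 0 0 = 1 := by
        simp only [LO'_apply, inner2_apply, (hblock M hM _).2.2.2.2.1] at h00
        simpa [put2] using h00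
      have h11 := congrArg (fun p : Sp 4 F => p.1.1 1) (hp ((e 1, 0), 0))
      have h11' : M.1 1 1 = 1 := by
        simp only [LO'_apply, inner2_apply, (hblock M hM _).2.2.2.2.2.1] at h11
        simpa [put2] using h11
      rcases hS M hM with rfl | rfl | rfl
      · rfl
      · rw [hA1] at h11'; simp at h11'
      · rw [hA2] at h00'; simp at h00'
    subst hM1
    refine Prod.ext rfl (ext_oG fun z => ?_)
    have h3 := congrArg tl2 (hp (put2 0 z))
    rw [map_one, oG_one_apply, inner2_apply, tl2_put2, tl2_put2] at h3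
    exact h3
  have hd : 3 * Nat.card (oG (hyp (binForm a b) 2)) ∣ Nat.card C₀ := by
    have h := Subgroup.card_dvd_of_injective _ hinj
    rwa [Nat.card_prod, Nat.card_zpowers, hord] at h
  rw [card_oG_minus hab hF 2] at hd
  -- the two centralisers
  let H := commutator (OM 4 a b)
  have hH : H.index = 2 := index_two hab h2 (by norm_num)
  have hrel : H.relIndex C₀ ∣ 2 := hH ▸ Subgroup.relIndex_dvd_index_of_normal H C₀
  have hCeq : Nat.card C = Nat.card (H.subgroupOf C₀) := by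
    refine Nat.card_congr
      { toFun := fun c => ⟨⟨c.1.1, ?_⟩, c.1.2⟩
        invFun := fun c => ⟨⟨c.1.1, c.2⟩, ?_⟩
        left_inv := fun c => rfl
        right_inv := fun c => rfl }
    · have := congrArg Subtype.val (Subgroup.mem_centralizer_singleton_iff.1 c.2)
      refine Subgroup.mem_centralizer_singleton_iff.2 ?_
      rw [show x₀ = (E.x (K0t 1 F)).1 from (hx _).symm]
      exact this
    · refine Subgroup.mem_centralizer_singleton_iff.2 (Subtype.ext ?_)
      show c.1.1 * (E.x (K0t 1 F)).1 = (E.x (K0t 1 F)).1 * c.1.1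
      rw [hx]
      exact Subgroup.mem_centralizer_singleton_iff.1 c.1.2
  have hC0 : Nat.card C₀ ∣ Nat.card C * 2 := by
    rw [hCeq, ← (H.subgroupOf C₀).card_mul_index]
    exact mul_dvd_mul_left _ hrel
  have hG : Nat.card H * 2 = 2 * 2 ^ 20 * (2 ^ 5 + 1) * ∏ i ∈ Finset.range 4, (2 ^ (2 * (i + 1)) - 1) := by
    rw [← card_oG_minus hab hF 4, ← H.card_mul_index, hH]
  have hCi : Nat.card C * C.index = Nat.card H := C.card_mul_index
  have h1 : 1215 ∣ Nat.card C := by
    refine (show Nat.Coprime 1215 2 by norm_num).dvd_of_dvd_mul_right ?_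
    refine Dvd.dvd.trans ?_ (hd.trans hC0)
    norm_num [Finset.prod_range_succ]
  obtain ⟨t, ht⟩ := h1
  have hcard : Nat.card H = 1215 * (2 ^ 20 * 19635) := by
    norm_num [Finset.prod_range_succ] at hG ⊢
    omega
  refine Dvd.intro_left t ?_
  refine Nat.eq_of_mul_eq_mul_left (show 0 < 1215 by norm_num) ?_
  rw [← hcard, ← hCi, ht, mul_assoc]

theorem no_degree (k ix : ℕ) (h1 : 140 < k) (h2 : k < 154) (hd : k ∣ 50030759116800)
    (hix : ix ∣ 2 ^ 20 * 19635) (hk : k ∣ ix * 128) : False := by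
  have h : k ∣ 2 ^ 27 * 19635 := hk.trans ((Nat.mul_dvd_mul_right hix 128).trans (dvd_of_eq (by norm_num)))
  obtain h | h | h : k = 144 ∨ k = 150 ∨ k = 153 := by
    rcases hd with ⟨c, hc⟩
    interval_cases k <;> omega
  all_goals
    subst h
    norm_num at h

end Cfsg.Agent.OrthMinus
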