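import Cfsg.Agent.OrthMinus.Small
import Cfsg.Agent.OrthMinus.Trace
import Cfsg.Agent.Classical.LinearBasic

/-!
The fixed space of the centre of the radical in the case of four elements.
-/

set_option autoImplicit false
set_option linter.unusedSectionVars false

namespace Cfsg.Agent.OrthMinus

open Matrix Module SLDeg OrthDeg QuadraticMap Classical.Quad SUDeg

theorem sum_finrank_eig_sub {A B W : Type*} [AddCommGroup A] [Finite A] [AddCommGroup B] [Fintype B]
    [AddCommGroup W] [Module ℂ W] [FiniteDimensional ℂ W]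
    (φ : AddChar A (Module.End ℂ W)) (θ : AddChar B (Module.End ℂ W)) (χ : AddChar A ℂ)
    (h : ∀ b, ∀ v ∈ eig φ ⊤ χ, θ b v ∈ eig φ ⊤ χ) :
    ∑ η, finrank ℂ (eig θ (eig φ ⊤ χ) η) = finrank ℂ (eig φ ⊤ χ) := by
  classical
  have e : (∑ η, (finrank ℂ (eig θ (eig φ ⊤ χ) η) : ℂ)) = finrank ℂ (eig φ ⊤ χ) := by
    rw [Finset.sum_congr rfl fun η _ => finrank_eig_sub φ θ χ h η, ← Finset.mul_sum, Finset.sum_comm]
    simp_rw [← Finset.sum_mul, AddChar.sum_apply_eq_ite, neg_eq_zero, ite_mul, zero_mul, Finset.sum_ite_eq',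
      Finset.mem_univ, if_true, AddChar.map_zero_eq_one, one_mul, trace_proj]
    rw [← mul_assoc, inv_mul_cancel₀ (Nat.cast_ne_zero.2 Fintype.card_ne_zero), one_mul]
  exact_mod_cast e

variable {F : Type*} [Field F] [Fintype F]

/-- A character of pairs. -/
def chi2 (ψ : AddChar F ℂ) (c : F × F) : AddChar (F × F) ℂ where
  toFun x := ψ (c.1 * x.1 + c.2 * x.2)
  map_zero_eq_one' := by simp
  map_add_eq_mul' x y := by
    rw [← AddChar.map_add_eq_mul]
    congr 1
    simp only [Prod.fst_add, Prod.snd_add]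
    ring

theorem chi2_apply (ψ : AddChar F ℂ) (c x : F × F) : chi2 ψ c x = ψ (c.1 * x.1 + c.2 * x.2) := rfl

theorem chi2_zero (ψ : AddChar F ℂ) : chi2 ψ 0 = 1 := DFunLike.ext _ _ fun x => by simp [chi2_apply]

theorem chi2_bijective {ψ : AddChar F ℂ} (hψ : ψ ≠ 1) : Function.Bijective (chi2 ψ) := by
  classical
  refine (Fintype.bijective_iff_injective_and_card _).2 ⟨fun c d h => ?_, AddChar.card_eq.symm⟩
  have h' : ∀ x : F × F, ψ ((c.1 - d.1) * x.1 + (c.2 - d.2) * x.2) = 1 := fun x => by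
    have e : (c.1 - d.1) * x.1 + (c.2 - d.2) * x.2 = (c.1 * x.1 + c.2 * x.2) + -(d.1 * x.1 + d.2 * x.2) := by ring
    rw [e, AddChar.map_add_eq_mul, ← chi2_apply, h, chi2_apply, ← AddChar.map_add_eq_mul, add_neg_cancel,
      AddChar.map_zero_eq_one]
  refine Prod.ext (sub_eq_zero.1 (eq_zero_of_psi hψ fun t => ?_)) (sub_eq_zero.1 (eq_zero_of_psi hψ fun t => ?_))
  · simpa [mul_comm] using h' (t, 0)
  · simpa [mul_comm] using h' (0, t)

/-- A normalised action on pairs has constant multiplicities. -/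
theorem dim_pairs {W : Type*} [AddCommGroup W] [Module ℂ W] [FiniteDimensional ℂ W]
    (θ : AddChar (F × F) (Module.End ℂ W)) (C : Submodule ℂ W) {ψ : AddChar F ℂ}
    (hn : ∀ p q r s : F, p * s - q * r ≠ 0 → ∃ P : Module.End ℂ W, Function.Injective P ∧ (∀ v ∈ C, P v ∈ C) ∧
      ∀ x : F × F, θ (p * x.1 + q * x.2, r * x.1 + s * x.2) * P = P * θ x)
    (c : F × F) (hc : c ≠ 0) :
    finrank ℂ (eig θ C (chi2 ψ c)) = finrank ℂ (eig θ C (chi2 ψ ((1 : F), (0 : F)))) := by
  have key : ∀ c c' : F × F, ∀ p q r s : F, p * s - q * r ≠ 0 → c'.1 * p + c'.2 * r = c.1 →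
      c'.1 * q + c'.2 * s = c.2 → finrank ℂ (eig θ C (chi2 ψ c)) ≤ finrank ℂ (eig θ C (chi2 ψ c')) := by
    intro c c' p q r s hd h1 h2
    obtain ⟨P, hP, hPC, hPθ⟩ := hn p q r s hd
    refine finrank_le_of_maps P hP fun v hv => mem_eig.2 ⟨hPC v (mem_eig.1 hv).1, fun y => ?_⟩
    set D := p * s - q * r with hD
    have e : y = (p * ((s * y.1 - q * y.2) / D) + q * ((p * y.2 - r * y.1) / D),
        r * ((s * y.1 - q * y.2) / D) + s * ((p * y.2 - r * y.1) / D)) := by
      refine Prod.ext ?_ ?_ <;> simp only <;> field_simp <;> rw [hD] <;> ring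
    rw [e, ← Module.End.mul_apply, hPθ ((s * y.1 - q * y.2) / D, (p * y.2 - r * y.1) / D), Module.End.mul_apply,
      (mem_eig.1 hv).2, map_smul, chi2_apply, chi2_apply]
    congr 2
    rw [← h1, ← h2]
    ring
  obtain ⟨c₁, c₂⟩ := c
  by_cases h : c₁ = 0
  · subst h
    have h2 : c₂ ≠ 0 := fun h => hc (by rw [h]; rfl)
    refine le_antisymm (key _ _ 0 c₂ 1 0 (by simpa using h2) (by simp) (by simp)) ?_
    exact key _ _ 0 1 c₂⁻¹ 0 (by simpa using h2) (by simp [h2]) (by simp)
  · refine le_antisymm (key _ _ c₁ c₂ 0 1 (by simpa using h) (by simp) (by simp)) ?_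
    exact key _ _ c₁⁻¹ (-c₂ / c₁) 0 1 (by simpa using h) (by simp [h]) (by simp [field]; try ring)

/-- The first group of transvections. -/
def rowY (x : F × F) : SLn 3 F := ⟨!![1, x.1, x.2; 0, 1, 0; 0, 0, 1], by simp [det_fin_three]⟩

/-- The second group of transvections. -/
def colY (x : F × F) : SLn 3 F := ⟨!![1, x.1, 0; 0, 1, 0; 0, x.2, 1], by simp [det_fin_three]⟩

theorem rowY_val (x : F × F) : (rowY x).1 = !![1, x.1, x.2; 0, 1, 0; 0, 0, 1] := rfl

theorem colY_val (x : F × F) : (colY x).1 = !![1, x.1, 0; 0, 1, 0; 0, x.2, 1] := rfl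

theorem rowY_add (x y : F × F) : rowY (x + y) = rowY x * rowY y := by
  refine Subtype.ext ?_
  rw [Matrix.SpecialLinearGroup.coe_mul, rowY_val, rowY_val, rowY_val]
  ext i j
  fin_cases i <;> fin_cases j <;> simp [Matrix.mul_apply, Fin.sum_univ_three] <;> ring

theorem colY_add (x y : F × F) : colY (x + y) = colY x * colY y := by
  refine Subtype.ext ?_
  rw [Matrix.SpecialLinearGroup.coe_mul, colY_val, colY_val, colY_val]
  ext i j
  fin_cases i <;> fin_cases j <;> simp [Matrix.mul_apply, Fin.sum_univ_three] <;> ring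

variable {a b : F} {G : Type*} [Group G]
variable (E : HFrame 0 F a b G) {ψ : AddChar F ℂ} {k : ℕ} (ρ : Representation ℂ G (Fin k → ℂ))

set_option maxHeartbeats 2000000 in
/-- In the case of four elements the fixed space has neither dimension twelve nor sixteen. -/
theorem four_case (hF : Fintype.card F = 4) (hψ : ψ ≠ 1)
    (hout : ∀ M : Matrix (Fin 3) (Fin 3) F, M.det ≠ 0 → ∃ g : G, (∀ B, g * E.x (act Mᵀ B) = E.x B * g) ∧
      ∀ A A' : SLn 3 F, M * A.1 = A'.1 * M → g * E.L A = E.L A' * g)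
    (hmove : ∃ g, ∃ v ∈ eigK E ψ ρ 0, ρ (E.L g) v ≠ v) :
    finrank ℂ (eigK E ψ ρ 0) ≠ 12 ∧ finrank ℂ (eigK E ψ ρ 0) ≠ 16 := by
  classical
  set V := eigK E ψ ρ 0 with hV
  have hinv : ∀ g : SLn 3 F, ∀ v ∈ V, ρ (E.L g) v ∈ V := fun g v hv => by
    have h := move_eigK E ψ ρ (E.hL g) hv
    rwa [map_zero] at h
  have h1 : rowY (0 : F × F) = 1 := Subtype.ext (by ext i j; fin_cases i <;> fin_cases j <;> simp [rowY])
  have h1' : colY (0 : F × F) = 1 := Subtype.ext (by ext i j; fin_cases i <;> fin_cases j <;> simp [colY])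
  let θ : AddChar (F × F) (Module.End ℂ (Fin k → ℂ)) :=
    { toFun := fun x => ρ (E.L (rowY x))
      map_zero_eq_one' := by rw [h1, map_one, map_one]
      map_add_eq_mul' := fun x y => by rw [rowY_add, map_mul, map_mul] }
  let θ' : AddChar (F × F) (Module.End ℂ (Fin k → ℂ)) :=
    { toFun := fun x => ρ (E.L (colY x))
      map_zero_eq_one' := by rw [h1', map_one, map_one]
      map_add_eq_mul' := fun x y => by rw [colY_add, map_mul, map_mul] }
  have hθ : ∀ x, ∀ v ∈ V, θ x v ∈ V := fun x => hinv _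
  have hθ' : ∀ x, ∀ v ∈ V, θ' x v ∈ V := fun x => hinv _
  -- operators from invertible matrices
  have hop : ∀ M : Matrix (Fin 3) (Fin 3) F, M.det ≠ 0 → ∃ P : Module.End ℂ (Fin k → ℂ), Function.Injective P ∧
      (∀ v ∈ V, P v ∈ V) ∧ ∀ A A' : SLn 3 F, M * A.1 = A'.1 * M → ρ (E.L A') * P = P * ρ (E.L A) := by
    intro M hM
    obtain ⟨g, hgx, hgL⟩ := hout M hM
    refine ⟨ρ g, rep_injective ρ g, fun v hv => ?_, fun A A' h => by rw [← map_mul, ← map_mul, hgL A A' h]⟩
    have h := move_eigK E ψ ρ hgx hv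
    rwa [map_zero] at h
  have hn : ∀ p q r s : F, p * s - q * r ≠ 0 → ∃ P : Module.End ℂ (Fin k → ℂ), Function.Injective P ∧
      (∀ v ∈ V, P v ∈ V) ∧ ∀ x : F × F, θ (p * x.1 + q * x.2, r * x.1 + s * x.2) * P = P * θ x := by
    intro p q r s hd
    obtain ⟨P, hP, hPV, hPA⟩ := hop !![p * s - q * r, 0, 0; 0, s, -r; 0, -q, p] (by
      rw [det_fin_three]; simp; intro h; apply mul_ne_zero hd hd; linear_combination h)
    refine ⟨P, hP, hPV, fun x => hPA (rowY x) (rowY _) ?_⟩
    ext i j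
    fin_cases i <;> fin_cases j <;> simp [rowY_val, Matrix.mul_apply, Fin.sum_univ_three] <;> ring
  have hn' : ∀ p q r s : F, p * s - q * r ≠ 0 → ∃ P : Module.End ℂ (Fin k → ℂ), Function.Injective P ∧
      (∀ v ∈ V, P v ∈ V) ∧ ∀ x : F × F, θ' (p * x.1 + q * x.2, r * x.1 + s * x.2) * P = P * θ' x := by
    intro p q r s hd
    obtain ⟨P, hP, hPV, hPA⟩ := hop !![p, 0, q; 0, 1, 0; r, 0, s] (by
      rw [det_fin_three]; simpa [sub_eq_add_neg] using hd)
    refine ⟨P, hP, hPV, fun x => hPA (colY x) (colY _) ?_⟩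
    ext i j
    fin_cases i <;> fin_cases j <;> simp [colY_val, Matrix.mul_apply, Fin.sum_univ_three] <;> ring
  have hsum : ∀ τ : AddChar (F × F) (Module.End ℂ (Fin k → ℂ)), (∀ x, ∀ v ∈ V, τ x v ∈ V) →
      (∀ p q r s : F, p * s - q * r ≠ 0 → ∃ P : Module.End ℂ (Fin k → ℂ), Function.Injective P ∧
        (∀ v ∈ V, P v ∈ V) ∧ ∀ x : F × F, τ (p * x.1 + q * x.2, r * x.1 + s * x.2) * P = P * τ x) →
      finrank ℂ V = finrank ℂ (eig τ V (chi2 ψ 0)) + 15 * finrank ℂ (eig τ V (chi2 ψ ((1 : F), (0 : F)))) := by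
    intro τ hτ hτn
    have h : ∑ η, finrank ℂ (eig τ V η) = finrank ℂ V := sum_finrank_eig_sub (phx E ρ) τ (lamT ψ 0) hτ
    rw [← (chi2_bijective hψ).sum_comp, ← Finset.add_sum_erase _ _ (Finset.mem_univ (0 : F × F)),
      Finset.sum_congr rfl fun c hc => dim_pairs τ V hτn c (Finset.ne_of_mem_erase hc), Finset.sum_const,
      Finset.card_erase_of_mem (Finset.mem_univ _), Finset.card_univ, Fintype.card_prod, hF, smul_eq_mul] at h
    exact h.symm
  have hs := hsum θ hθ hn
  have hs' := hsum θ' hθ' hn'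
  set D₀ := finrank ℂ (eig θ V (chi2 ψ 0))
  set D := finrank ℂ (eig θ V (chi2 ψ ((1 : F), (0 : F)))) with hDdef
  set D₀' := finrank ℂ (eig θ' V (chi2 ψ 0))
  set D' := finrank ℂ (eig θ' V (chi2 ψ ((1 : F), (0 : F)))) with hD'def
  -- the transvections act nontrivially
  have hD : D ≠ 0 := by
    intro h0
    have hfix : ∀ x, ∀ v ∈ V, ρ (E.L (rowY x)) v = v := by
      intro x v hv
      by_contra hne
      obtain ⟨η, hη, hbot⟩ := exists_eig_nontrivial (φ := θ) hθ hv (a := x) hne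
      obtain ⟨c, rfl⟩ := (chi2_bijective hψ).2 η
      refine hbot (Submodule.finrank_eq_zero.1 ?_)
      rw [dim_pairs θ V hn c (fun h => hη (h ▸ chi2_zero ψ))]
      exact h0
    let N : Subgroup (SLn 3 F) :=
      { carrier := {g | ∀ v ∈ V, ρ (E.L g) v = v}
        one_mem' := fun v _ => by rw [map_one, map_one]; rfl
        mul_mem' := fun {g h} hg hh v hv => by
          rw [map_mul, map_mul, Module.End.mul_apply, hh v hv, hg v hv]
        inv_mem' := fun {g} hg v hv => by
          conv_lhs => rw [← hg v hv]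
          rw [← Module.End.mul_apply, ← map_mul, ← map_mul, inv_mul_cancel, map_one, map_one]; rfl }
    have hNt : ∀ (M Mi : Matrix (Fin 3) (Fin 3) F) (A' : SLn 3 F) (x : F × F), M.det ≠ 0 → M * Mi = 1 →
        M * (rowY x).1 = A'.1 * M → A' ∈ N := by
      intro M Mi A' x hM hMM hA v hv
      obtain ⟨P, hP, hPV, hPA⟩ := hop M hM
      obtain ⟨w, hw⟩ := LinearMap.injective_iff_surjective.1 (show Function.Injective (P.restrict hPV) from
        fun u u' h => Subtype.ext (hP (congrArg Subtype.val h))) ⟨v, hv⟩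
      have hw' : P w.1 = v := congrArg Subtype.val hw
      rw [← hw', ← Module.End.mul_apply, hPA _ _ hA, Module.End.mul_apply, hfix x _ w.2]
    have htop : N = ⊤ := by
      refine Classical.sl_eq_top_of_transvection N fun i j hij c => ?_
      fin_cases i <;> fin_cases j
      · exact absurd rfl hij
      · exact hNt 1 1 _ (c, 0) (by simp) (by simp) (by
          ext i' j'; fin_cases i' <;> fin_cases j' <;>
            simp [rowY_val, Matrix.SpecialLinearGroup.transvection_coe, Matrix.single])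
      · exact hNt 1 1 _ (0, c) (by simp) (by simp) (by
          ext i' j'; fin_cases i' <;> fin_cases j' <;>
            simp [rowY_val, Matrix.SpecialLinearGroup.transvection_coe, Matrix.single])
      · exact hNt !![0, 1, 0; 1, 0, 0; 0, 0, 1] !![0, 1, 0; 1, 0, 0; 0, 0, 1] _ (c, 0)
          (by simp [det_fin_three]) (by ext i' j'; fin_cases i' <;> fin_cases j' <;>
            simp [Matrix.mul_apply, Fin.sum_univ_three]) (by
          ext i' j'; fin_cases i' <;> fin_cases j' <;>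
            simp [rowY_val, Matrix.SpecialLinearGroup.transvection_coe, Matrix.single, Matrix.mul_apply,
              Fin.sum_univ_three])
      · exact absurd rfl hij
      · exact hNt !![0, 1, 0; 1, 0, 0; 0, 0, 1] !![0, 1, 0; 1, 0, 0; 0, 0, 1] _ (0, c)
          (by simp [det_fin_three]) (by ext i' j'; fin_cases i' <;> fin_cases j' <;>
            simp [Matrix.mul_apply, Fin.sum_univ_three]) (by
          ext i' j'; fin_cases i' <;> fin_cases j' <;>
            simp [rowY_val, Matrix.SpecialLinearGroup.transvection_coe, Matrix.single, Matrix.mul_apply,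
              Fin.sum_univ_three])
      · exact hNt !![0, 1, 0; 0, 0, 1; 1, 0, 0] !![0, 0, 1; 1, 0, 0; 0, 1, 0] _ (c, 0)
          (by simp [det_fin_three]) (by ext i' j'; fin_cases i' <;> fin_cases j' <;>
            simp [Matrix.mul_apply, Fin.sum_univ_three]) (by
          ext i' j'; fin_cases i' <;> fin_cases j' <;>
            simp [rowY_val, Matrix.SpecialLinearGroup.transvection_coe, Matrix.single, Matrix.mul_apply,
              Fin.sum_univ_three])
      · exact hNt !![0, 1, 0; 0, 0, 1; 1, 0, 0] !![0, 0, 1; 1, 0, 0; 0, 1, 0] _ (0, c)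
          (by simp [det_fin_three]) (by ext i' j'; fin_cases i' <;> fin_cases j' <;>
            simp [Matrix.mul_apply, Fin.sum_univ_three]) (by
          ext i' j'; fin_cases i' <;> fin_cases j' <;>
            simp [rowY_val, Matrix.SpecialLinearGroup.transvection_coe, Matrix.single, Matrix.mul_apply,
              Fin.sum_univ_three])
      · exact absurd rfl hij
    obtain ⟨g, v, hv, hne⟩ := hmove
    exact hne ((htop ▸ Subgroup.mem_top g : g ∈ N) v hv)
  refine ⟨fun h => by omega, fun h16 => ?_⟩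
  have hD1 : D = 1 := by omega
  have hD₀ : D₀ = 1 := by omega
  -- the second group
  have hDp : D' ≠ 0 := by
    intro h0
    have hfix : ∀ x, ∀ v ∈ V, ρ (E.L (colY x)) v = v := by
      intro x v hv
      by_contra hne
      obtain ⟨η, hη, hbot⟩ := exists_eig_nontrivial (φ := θ') hθ' hv (a := x) hne
      obtain ⟨c, rfl⟩ := (chi2_bijective hψ).2 η
      refine hbot (Submodule.finrank_eq_zero.1 ?_)
      rw [dim_pairs θ' V hn' c (fun h => hη (h ▸ chi2_zero ψ))]
      exact h0
    obtain ⟨v, hv, hv0⟩ := (Submodule.ne_bot_iff (eig θ V (chi2 ψ ((1 : F), (0 : F))))).1 (fun h => hD (by rw [hDdef, h, finrank_bot]))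
    refine hψ (DFunLike.ext _ _ fun t => ?_)
    have h2 := (mem_eig.1 hv).2 (t, (0 : F))
    have e : rowY (t, (0 : F)) = colY (t, (0 : F)) := Subtype.ext rfl
    rw [show θ (t, (0 : F)) = ρ (E.L (colY (t, (0 : F)))) from congrArg (fun g => ρ (E.L g)) e, hfix _ _ (mem_eig.1 hv).1,
      chi2_apply] at h2
    refine smul_left_injective ℂ hv0 ?_
    simpa using h2.symm
  have hD1' : D' = 1 := by omega
  have hline' : finrank ℂ (eig θ' V (chi2 ψ ((0 : F), (1 : F)))) = 1 := by
    rw [dim_pairs θ' V hn' _ (by simp), ← hD'def, hD1']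
  obtain ⟨w, hw0, hw⟩ := finrank_eq_one_iff'.1 hline'
  have hwV := (mem_eig.1 w.2).1
  have hz : ∀ t : F, ρ (E.L (colY (t, 0))) w.1 = w.1 := fun t => by
    refine ((mem_eig.1 w.2).2 (t, 0)).trans ?_
    rw [chi2_apply]; simp
  have hline : ∀ t : F, ∃ μ : ℂ, ρ (E.L (rowY (0, t))) w.1 = μ • w.1 := by
    intro t
    have hm : ρ (E.L (rowY (0, t))) w.1 ∈ eig θ' V (chi2 ψ ((0 : F), (1 : F))) := by
      refine mem_eig.2 ⟨hinv _ _ hwV, fun x => ?_⟩
      show ρ (E.L (colY x)) _ = _
      have e : colY x * rowY (0, t) = rowY (0, t) * colY (x.1 - t * x.2, x.2) := by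
        refine Subtype.ext ?_
        rw [Matrix.SpecialLinearGroup.coe_mul, Matrix.SpecialLinearGroup.coe_mul, rowY_val, colY_val, colY_val]
        ext i j
        fin_cases i <;> fin_cases j <;> simp [Matrix.mul_apply, Fin.sum_univ_three]
      rw [← Module.End.mul_apply, ← map_mul, ← map_mul, e, map_mul, map_mul, Module.End.mul_apply,
        show ρ (E.L (colY (x.1 - t * x.2, x.2))) w.1 = _ from (mem_eig.1 w.2).2 (x.1 - t * x.2, x.2), map_smul]
      congr 1
      simp [chi2_apply]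
    obtain ⟨μ, hμ⟩ := hw ⟨_, hm⟩
    exact ⟨μ, (congrArg Subtype.val hμ).symm⟩
  choose μ hμ using hline
  have hw1 : w.1 ≠ 0 := fun h => hw0 (Subtype.ext h)
  let μc : AddChar F ℂ :=
    { toFun := μ
      map_zero_eq_one' := smul_left_injective ℂ hw1 (by
        show μ 0 • w.1 = (1 : ℂ) • w.1
        rw [← hμ, show ((0 : F), (0 : F)) = 0 from rfl, h1, map_one, map_one, one_smul]; rfl)
      map_add_eq_mul' := fun s t => smul_left_injective ℂ hw1 (by
        show μ (s + t) • w.1 = (μ s * μ t) • w.1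
        rw [← hμ, show ((0 : F), s + t) = ((0 : F), s) + ((0 : F), t) by simp, rowY_add, map_mul, map_mul,
          Module.End.mul_apply, hμ, map_smul, hμ, smul_smul, mul_comm]) }
  obtain ⟨α, hα⟩ := exists_scalar_char hψ μc
  have hwθ : w.1 ∈ eig θ V (chi2 ψ (0, α)) := by
    refine mem_eig.2 ⟨hwV, fun x => ?_⟩
    show ρ (E.L (rowY x)) w.1 = _
    have e : rowY x = rowY (0, x.2) * colY (x.1, 0) := Subtype.ext (by
      rw [Matrix.SpecialLinearGroup.coe_mul, rowY_val, rowY_val, colY_val]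
      ext i j; fin_cases i <;> fin_cases j <;> simp [Matrix.mul_apply, Fin.sum_univ_three])
    rw [e, map_mul, map_mul, Module.End.mul_apply, hz, hμ, show μ x.2 = μc x.2 from rfl, hα, chi2_apply]
    congr 2
    ring
  have hθ1 : finrank ℂ (eig θ V (chi2 ψ (0, α))) = 1 := by
    by_cases hα0 : α = 0
    · rw [hα0]; exact hD₀
    · rw [dim_pairs θ V hn _ (by simp [hα0]), ← hDdef, hD1]
  obtain ⟨u, hu0, hu1⟩ : ∃ u : F, u ≠ 0 ∧ u ≠ 1 := by
    by_contra hc
    push Not at hc
    have h2 := (Finset.card_le_card (s := (Finset.univ : Finset F)) (t := {0, 1}) fun x _ => by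
      rcases eq_or_ne x 0 with rfl | hx <;> simp [*]).trans Finset.card_le_two
    rw [Finset.card_univ, hF] at h2
    omega
  obtain ⟨P, hP, hPV, hPA⟩ := hop !![1, 0, 0; 0, u, 0; 0, 0, 1] (by rw [det_fin_three]; simpa using hu0)
  have hPθ : P w.1 ∈ eig θ V (chi2 ψ (0, α)) := by
    refine mem_eig.2 ⟨hPV _ hwV, fun x => ?_⟩
    show ρ (E.L (rowY x)) _ = _
    rw [← Module.End.mul_apply, hPA (rowY (u * x.1, x.2)) (rowY x) (by
      ext i j; fin_cases i <;> fin_cases j <;> simp [rowY_val, Matrix.mul_apply, Fin.sum_univ_three, mul_comm]),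
      Module.End.mul_apply, show ρ (E.L (rowY (u * x.1, x.2))) w.1 = _ from (mem_eig.1 hwθ).2 (u * x.1, x.2),
      map_smul]
    simp [chi2_apply]
  obtain ⟨l, hl⟩ := (finrank_eq_one_iff_of_nonzero' (⟨w.1, hwθ⟩ : eig θ V (chi2 ψ (0, α)))
    (fun h => hw1 (congrArg Subtype.val h))).1 hθ1 ⟨_, hPθ⟩
  have hl' : l • w.1 = P w.1 := congrArg Subtype.val hl
  have hPw : P w.1 ≠ 0 := fun h => hw1 (hP (h.trans (map_zero P).symm))
  refine hu1 ?_
  by_contra hu
  refine hψ (DFunLike.ext _ _ fun t => ?_)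
  set y := t / (u - 1)
  have e1 : ρ (E.L (colY ((0 : F), y))) (P w.1) = ψ (u * y) • P w.1 := by
    rw [← Module.End.mul_apply, hPA (colY (0, u * y)) (colY (0, y)) (by
      ext i j; fin_cases i <;> fin_cases j <;> simp [colY_val, Matrix.mul_apply, Fin.sum_univ_three, mul_comm]),
      Module.End.mul_apply, show ρ (E.L (colY (0, u * y))) w.1 = _ from (mem_eig.1 w.2).2 (0, u * y), map_smul]
    simp [chi2_apply]
  have e2 : ρ (E.L (colY ((0 : F), y))) (P w.1) = ψ y • P w.1 := by
    rw [← hl', map_smul, show ρ (E.L (colY ((0 : F), y))) w.1 = _ from (mem_eig.1 w.2).2 (0, y), chi2_apply,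
      smul_comm]
    simp
  have e3 := smul_left_injective ℂ hPw (e1.symm.trans e2)
  have e4 : t = u * y + -y := by
    have : (u - 1) * y = t := mul_div_cancel₀ t (sub_ne_zero.2 hu)
    linear_combination -this
  rw [AddChar.one_apply, e4, AddChar.map_add_eq_mul, e3, ← AddChar.map_add_eq_mul, add_neg_cancel,
    AddChar.map_zero_eq_one]

end Cfsg.Agent.OrthMinus
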