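import Cfsg.Agent.OrthMinus.Small
import Cfsg.Agent.OrthMinus.Trace
import Cfsg.Agent.Classical.LinearBasic

/-!
The fixed space of the centre of the radical is large in the smallest case.
-/

set_option autoImplicit false
set_option linter.unusedSectionVars false

namespace Cfsg.Agent.OrthMinus

open Matrix Module SLDeg OrthDeg QuadraticMap Classical.Quad SUDeg

namespace Two

/-- An element of order seven. -/
def A₇ : SLn 3 (ZMod 2) := ⟨!![0, 0, 1; 1, 0, 1; 0, 1, 0], by decide⟩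

/-- It is conjugate to its square. -/
def S₂ : SLn 3 (ZMod 2) := ⟨!![0, 0, 1; 0, 1, 0; 1, 1, 1], by decide⟩

/-- Its inverse transpose. -/
def A₇' : SLn 3 (ZMod 2) := ⟨!![1, 0, 1; 1, 0, 0; 0, 1, 0], by decide⟩

/-- It conjugates the inverse transpose to the inverse. -/
def C₆ : SLn 3 (ZMod 2) := ⟨!![0, 0, 1; 0, 1, 1; 1, 1, 0], by decide⟩

theorem pow_seven : A₇ ^ 7 = 1 := by decide +kernel

theorem conj_two : S₂ * A₇ = A₇ ^ 2 * S₂ := by decide +kernel

theorem conj_six : C₆ * A₇' = A₇ ^ 6 * C₆ := by decide +kernel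

theorem inv_transpose : A₇'.1 * A₇.1ᵀ = 1 := by decide +kernel

theorem moves_all : ∀ j : ZMod 7, j ≠ 0 → ∀ x y z : ZMod 2,
    (A₇ ^ j.val).1 * !![0, x, y; x, 0, z; y, z, 0] * (A₇ ^ j.val).1ᵀ = !![0, x, y; x, 0, z; y, z, 0] →
      x = 0 ∧ y = 0 ∧ z = 0 := by
  decide +kernel

theorem conj_cover : ∀ i j : Fin 3, i ≠ j → ∃ w : Matrix (Fin 3) (Fin 3) (ZMod 2) × Matrix (Fin 3) (Fin 3) (ZMod 2) ×
    Matrix (Fin 3) (Fin 3) (ZMod 2) × Matrix (Fin 3) (Fin 3) (ZMod 2),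
    w.1.det = 1 ∧ w.2.2.1.det = 1 ∧ w.1 * w.2.1 = 1 ∧ w.2.2.1 * w.2.2.2 = 1 ∧
      1 + Matrix.single i j 1 = w.1 * A₇.1 * w.2.1 * (w.2.2.1 * A₇.1 * w.2.2.2) := by
  intro i j hij
  fin_cases i <;> fin_cases j
  · exact absurd rfl hij
  · exact ⟨(!![1, 1, 1; 1, 1, 0; 0, 1, 1], !![1, 0, 1; 1, 1, 1; 1, 1, 0], !![1, 1, 1; 0, 1, 0; 1, 1, 0],
      !![0, 1, 1; 0, 1, 0; 1, 0, 1]), by decide +kernel⟩
  · exact ⟨(!![1, 1, 1; 1, 1, 0; 0, 1, 0], !![0, 1, 1; 0, 0, 1; 1, 1, 0], !![1, 1, 1; 0, 0, 1; 1, 0, 1],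
      !![0, 1, 1; 1, 0, 1; 0, 1, 0]), by decide +kernel⟩
  · exact ⟨(!![1, 1, 1; 1, 1, 0; 1, 0, 1], !![1, 1, 1; 1, 0, 1; 1, 1, 0], !![1, 1, 1; 0, 1, 1; 0, 1, 0],
      !![1, 1, 0; 0, 0, 1; 0, 1, 1]), by decide +kernel⟩
  · exact absurd rfl hij
  · exact ⟨(!![1, 1, 1; 1, 1, 0; 1, 0, 0], !![0, 0, 1; 0, 1, 1; 1, 1, 0], !![1, 1, 1; 0, 1, 1; 0, 0, 1],
      !![1, 1, 0; 0, 1, 1; 0, 0, 1]), by decide +kernel⟩
  · exact ⟨(!![1, 1, 1; 1, 0, 1; 1, 1, 0], !![1, 1, 1; 1, 1, 0; 1, 0, 1], !![1, 1, 1; 0, 1, 0; 0, 1, 1],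
      !![1, 0, 1; 0, 1, 0; 0, 1, 1]), by decide +kernel⟩
  · exact ⟨(!![1, 1, 1; 0, 0, 1; 0, 1, 1], !![1, 0, 1; 0, 1, 1; 0, 1, 0], !![1, 1, 1; 1, 0, 0; 0, 1, 0],
      !![0, 1, 0; 0, 0, 1; 1, 1, 1]), by decide +kernel⟩
  · exact absurd rfl hij

/-- The normal subgroups containing the element of order seven contain everything. -/
theorem top_of_mem {N : Subgroup (SLn 3 (ZMod 2))} (hN : N.Normal) (hA : A₇ ∈ N) : N = ⊤ := by
  refine Classical.sl_eq_top_of_transvection N fun i j hij c => ?_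
  rcases (show c = 0 ∨ c = 1 by revert c; decide) with rfl | rfl
  · rw [show Matrix.SpecialLinearGroup.transvection hij (0 : ZMod 2) = 1 from
      Subtype.ext (by rw [Matrix.SpecialLinearGroup.transvection_coe, Matrix.single_zero, add_zero,
        Matrix.SpecialLinearGroup.coe_one])]
    exact one_mem _
  obtain ⟨⟨g, gi, h, hi⟩, hg, hh, hgi, hhi, e⟩ := conj_cover i j hij
  let g' : SLn 3 (ZMod 2) := ⟨g, hg⟩
  let h' : SLn 3 (ZMod 2) := ⟨h, hh⟩
  have eg : (g'⁻¹).1 = gi := by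
    have := congrArg (fun M => (g'⁻¹).1 * M) hgi
    simp only [mul_one] at this
    rw [← this, ← Matrix.mul_assoc, ← show g'.1 = g from rfl, ← Matrix.SpecialLinearGroup.coe_mul, inv_mul_cancel,
      Matrix.SpecialLinearGroup.coe_one, Matrix.one_mul]
  have eh : (h'⁻¹).1 = hi := by
    have := congrArg (fun M => (h'⁻¹).1 * M) hhi
    simp only [mul_one] at this
    rw [← this, ← Matrix.mul_assoc, ← show h'.1 = h from rfl, ← Matrix.SpecialLinearGroup.coe_mul, inv_mul_cancel,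
      Matrix.SpecialLinearGroup.coe_one, Matrix.one_mul]
  rw [show Matrix.SpecialLinearGroup.transvection hij (1 : ZMod 2) = g' * A₇ * g'⁻¹ * (h' * A₇ * h'⁻¹) from
    Subtype.ext (by
      rw [Matrix.SpecialLinearGroup.transvection_coe, e]
      simp only [Matrix.SpecialLinearGroup.coe_mul, eg, eh]
      rfl)]
  exact mul_mem (hN.conj_mem _ hA _) (hN.conj_mem _ hA _)

theorem units_seven : ∀ u : ZMod 7, u ≠ 0 → u = 1 ∨ u = 4 * 4 ∨ u = 4 * 6 ∨ u = 4 ∨ u = 4 * 4 * 6 ∨ u = 6 := by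
  decide

end Two

variable {F : Type*} [Field F] [Fintype F] {a b : F} {G : Type*} [Group G]
variable (E : HFrame 0 F a b G) {ψ : AddChar F ℂ} {k : ℕ} (ρ : Representation ℂ G (Fin k → ℂ))

/-- In the smallest case the fixed space has dimension at least six. -/
theorem six_le (hF : Fintype.card F = 2) (hψ : ψ ≠ 1)
    (hswap : ∃ s : G, ∀ A A' : SLn 3 F, A'.1 * A.1ᵀ = 1 → s * E.L A = E.L A' * s)
    (hmove : ∃ g, ∃ v ∈ eigK E ψ ρ 0, ρ (E.L g) v ≠ v) : 6 ≤ finrank ℂ (eigK E ψ ρ 0) := by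
  classical
  by_contra hlt
  push Not at hlt
  let ι : ZMod 2 ≃+* F := ZMod.ringEquivOfPrime F Nat.prime_two hF
  let μ : SLn 3 (ZMod 2) →* SLn 3 F := Matrix.SpecialLinearGroup.map ι.toRingHom
  let L₂ : SLn 3 (ZMod 2) →* G := E.L.comp μ
  have h7 : (ρ (L₂ Two.A₇)) ^ 7 = 1 := by rw [← map_pow, ← map_pow, Two.pow_seven, map_one, map_one]
  let θ : AddChar (ZMod 7) (Module.End ℂ (Fin k → ℂ)) :=
    { toFun := fun j => ρ (L₂ (Two.A₇ ^ j.val))
      map_zero_eq_one' := by rw [ZMod.val_zero, pow_zero, map_one, map_one]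
      map_add_eq_mul' := fun i j => by
        rw [← map_mul, ← map_mul, ← pow_add, ZMod.val_add, ← pow_eq_pow_mod _ Two.pow_seven] }
  have hθ : ∀ j, ∀ v ∈ eigK E ψ ρ 0, θ j v ∈ eigK E ψ ρ 0 := fun j v hv => by
    have h := move_eigK E ψ ρ (E.hL (μ (Two.A₇ ^ j.val))) hv
    rwa [map_zero] at h
  set φ := phx E ρ
  set χ₀ := lamT (m := 0) ψ (0 : AltM 3 F)
  -- nonzero matrices are moved
  have htr : ∀ j : ZMod 7, j ≠ 0 →
      LinearMap.trace ℂ _ (θ j) = LinearMap.trace ℂ _ (θ j * proj φ χ₀) := by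
    intro j hj
    rw [trace_eq_sum φ (θ j)]
    refine Finset.sum_eq_single χ₀ (fun χ _ hχ => ?_) (by simp)
    obtain ⟨K, rfl⟩ := (lamT_bijective (m := 0) hψ).2 χ
    refine trace_moved φ (χ' := lamT ψ (act (μ (Two.A₇ ^ j.val)).1 K))
      (fun v hv => move_eigK E ψ ρ (E.hL (μ (Two.A₇ ^ j.val))) hv) fun h => hχ ?_
    have hK := (lamT_bijective (m := 0) hψ).1 h
    suffices hK0 : K = 0 by rw [hK0]
    set K₂ : Matrix (Fin 3) (Fin 3) (ZMod 2) := K.1.map ι.symm with hK₂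
    have hval : K₂ = !![0, K₂ 0 1, K₂ 0 2; K₂ 0 1, 0, K₂ 1 2; K₂ 0 2, K₂ 1 2, 0] := by
      have hneg : ∀ x : ZMod 2, -x = x := by decide
      have hs : ∀ i i', K₂ i' i = K₂ i i' := fun i i' => by
        rw [hK₂, Matrix.map_apply, Matrix.map_apply, alt_swap K, map_neg, hneg]
      ext i i'
      fin_cases i <;> fin_cases i' <;> first | exact hs _ _ | simp [hK₂, alt_diag]
    have hfix : (Two.A₇ ^ j.val).1 * K₂ * (Two.A₇ ^ j.val).1ᵀ = K₂ := by
      have h1 := congrArg (fun M : AltM 3 F => M.1.map ι.symm.toRingHom) hK.symm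
      simp only [act_val, Matrix.map_mul] at h1
      have e : (μ (Two.A₇ ^ j.val)).1.map ι.symm.toRingHom = (Two.A₇ ^ j.val).1 := by
        ext i i'
        exact ι.symm_apply_apply _
      rw [transpose_map, e] at h1
      exact h1
    rw [hval] at hfix
    obtain ⟨h01, h02, h12⟩ := Two.moves_all j hj _ _ _ hfix
    have h0 : K₂ = 0 := by
      rw [hval, h01, h02, h12]
      ext i i'
      fin_cases i <;> fin_cases i' <;> rfl
    refine Subtype.ext (Matrix.ext fun i i' => ?_)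
    have := congrArg (fun M : Matrix (Fin 3) (Fin 3) (ZMod 2) => M i i') h0
    simpa [hK₂] using this
  -- the two dimensions differ by a constant
  have hD : ∀ η η' : AddChar (ZMod 7) ℂ, (finrank ℂ (eig θ ⊤ η) : ℂ) + finrank ℂ (eig θ (eig φ ⊤ χ₀) η') =
      finrank ℂ (eig θ ⊤ η') + finrank ℂ (eig θ (eig φ ⊤ χ₀) η) := by
    intro η η'
    rw [finrank_eig_eq, finrank_eig_eq, finrank_eig_sub φ θ χ₀ hθ, finrank_eig_sub φ θ χ₀ hθ, ← mul_add, ← mul_add,
      ← Finset.sum_add_distrib, ← Finset.sum_add_distrib]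
    congr 1
    refine Finset.sum_congr rfl fun j _ => ?_
    by_cases hj : j = 0
    · subst hj; simp only [neg_zero, AddChar.map_zero_eq_one]
    · rw [htr j hj]; ring
  -- conjugacy of the powers
  have hP : ∀ u u' : ZMod 7, u' * u = 1 → (∃ g : G, g * L₂ Two.A₇ = L₂ (Two.A₇ ^ u'.val) * g) →
      ∀ η : AddChar (ZMod 7) ℂ, finrank ℂ (eig θ ⊤ η) ≤ finrank ℂ (eig θ ⊤ (η.mulShift u)) := by
    rintro u u' huu ⟨g, hg⟩ η
    refine finrank_le_of_maps (ρ g) (rep_injective ρ g) fun v hv => mem_eig.2 ⟨Submodule.mem_top, fun x => ?_⟩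
    have hx : ∀ y : ZMod 7, θ (u' * y) * ρ g = ρ g * θ y := by
      intro y
      show ρ _ * ρ g = ρ g * ρ _
      rw [← map_mul, ← map_mul]
      congr 1
      have h := (SemiconjBy.pow_right (show SemiconjBy g (L₂ Two.A₇) (L₂ (Two.A₇ ^ u'.val)) from hg) y.val).eq
      rw [← map_pow, ← map_pow, ← pow_mul] at h
      rw [h, ZMod.val_mul, ← pow_eq_pow_mod _ Two.pow_seven]
    have h2 := LinearMap.congr_fun (hx (u * x)) v
    rw [← mul_assoc, huu, one_mul] at h2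
    rw [Module.End.mul_apply, Module.End.mul_apply, (mem_eig.1 hv).2, map_smul] at h2
    rw [AddChar.mulShift_apply]
    exact h2
  have h4 : ∀ η : AddChar (ZMod 7) ℂ, finrank ℂ (eig θ ⊤ η) ≤ finrank ℂ (eig θ ⊤ (η.mulShift 4)) :=
    hP 4 2 (by decide) ⟨L₂ Two.S₂, by rw [← map_mul, ← map_mul, Two.conj_two]; rfl⟩
  have h6 : ∀ η : AddChar (ZMod 7) ℂ, finrank ℂ (eig θ ⊤ η) ≤ finrank ℂ (eig θ ⊤ (η.mulShift 6)) := by
    refine hP 6 6 (by decide) ?_
    obtain ⟨s, hs⟩ := hswap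
    have e : (μ Two.A₇').1 * (μ Two.A₇).1ᵀ = 1 := by
      have := congrArg (fun M => M.map ι.toRingHom) Two.inv_transpose
      simp only [Matrix.map_mul, ← transpose_map, Matrix.map_one ι.toRingHom (map_zero _) (map_one _)] at this
      exact this
    refine ⟨L₂ Two.C₆ * s, ?_⟩
    calc L₂ Two.C₆ * s * L₂ Two.A₇ = L₂ Two.C₆ * (L₂ Two.A₇' * s) := by
            rw [mul_assoc]; exact congrArg (L₂ Two.C₆ * ·) (hs _ _ e)
      _ = _ := by rw [← mul_assoc, ← map_mul, Two.conj_six, map_mul, mul_assoc]; rfl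
  have hall : ∀ u : ZMod 7, u ≠ 0 → ∀ η : AddChar (ZMod 7) ℂ,
      finrank ℂ (eig θ ⊤ η) ≤ finrank ℂ (eig θ ⊤ (η.mulShift u)) := by
    have hmul : ∀ u w : ZMod 7,
        (∀ η : AddChar (ZMod 7) ℂ, finrank ℂ (eig θ ⊤ η) ≤ finrank ℂ (eig θ ⊤ (η.mulShift u))) →
        (∀ η : AddChar (ZMod 7) ℂ, finrank ℂ (eig θ ⊤ η) ≤ finrank ℂ (eig θ ⊤ (η.mulShift w))) →
        ∀ η : AddChar (ZMod 7) ℂ, finrank ℂ (eig θ ⊤ η) ≤ finrank ℂ (eig θ ⊤ (η.mulShift (u * w))) := by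
      intro u w hu hw η
      refine (hu η).trans ((hw _).trans (le_of_eq ?_))
      have e : (η.mulShift u).mulShift w = η.mulShift (u * w) := DFunLike.ext _ _ fun x => by
        simp only [AddChar.mulShift_apply, mul_assoc]
      rw [e]
    intro u hu
    rcases Two.units_seven u hu with rfl | rfl | rfl | rfl | rfl | rfl
    · intro η
      have e : η.mulShift (1 : ZMod 7) = η := DFunLike.ext _ _ fun x => by rw [AddChar.mulShift_apply, one_mul]
      rw [e]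
    · exact hmul _ _ h4 h4
    · exact hmul _ _ h4 h6
    · exact h4
    · exact hmul _ _ (hmul _ _ h4 h4) h6
    · exact h6
  -- the element of order seven fixes everything
  have htriv : ∀ v ∈ eigK E ψ ρ 0, θ 1 v = v := by
    intro v hv
    by_contra hne
    obtain ⟨η, hη, hbot⟩ := exists_eig_nontrivial (φ := θ) (C := eigK E ψ ρ 0) hθ hv hne
    have h1 : ∀ u : {u : ZMod 7 // u ≠ 0}, 1 ≤ finrank ℂ (eig θ (eigK E ψ ρ 0) (η.mulShift u.1)) := fun u => by
      have h2 := Submodule.one_le_finrank_iff.2 hbot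
      have h3 := hall u.1 u.2 η
      have h4' : finrank ℂ (eig θ ⊤ η) + finrank ℂ (eig θ (eigK E ψ ρ 0) (η.mulShift u.1)) =
          finrank ℂ (eig θ ⊤ (η.mulShift u.1)) + finrank ℂ (eig θ (eigK E ψ ρ 0) η) := by
        exact_mod_cast hD η (η.mulShift u.1)
      omega
    have hinj : Function.Injective fun u : {u : ZMod 7 // u ≠ 0} => η.mulShift u.1 := by
      intro u u' h
      by_contra hne'
      haveI : Fact (Nat.Prime 7) := ⟨by norm_num⟩
      have hd : u.1 - u'.1 ≠ 0 := sub_ne_zero.2 fun h' => hne' (Subtype.ext h')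
      refine hη (DFunLike.ext _ _ fun x => ?_)
      have h2 := DFunLike.congr_fun h ((u.1 - u'.1)⁻¹ * x)
      simp only [AddChar.mulShift_apply] at h2
      have e : x = u.1 * ((u.1 - u'.1)⁻¹ * x) + -(u'.1 * ((u.1 - u'.1)⁻¹ * x)) := by
        rw [← sub_eq_add_neg, ← sub_mul, ← mul_assoc, mul_inv_cancel₀ hd, one_mul]
      rw [AddChar.one_apply, e, AddChar.map_add_eq_mul, h2, ← AddChar.map_add_eq_mul, add_neg_cancel,
        AddChar.map_zero_eq_one]
    have h5 := sum_finrank_le (φ := θ) (C := eigK E ψ ρ 0)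
      (Finset.univ.image fun u : {u : ZMod 7 // u ≠ 0} => η.mulShift u.1)
    rw [Finset.sum_image fun _ _ _ _ h => hinj h] at h5
    have h6' := (Finset.sum_le_sum fun u _ => h1 u).trans h5
    rw [Finset.sum_const, Finset.card_univ, show Fintype.card {u : ZMod 7 // u ≠ 0} = 6 by decide, smul_eq_mul,
      mul_one] at h6'
    omega
  let N : Subgroup (SLn 3 (ZMod 2)) :=
    { carrier := {g | ∀ v ∈ eigK E ψ ρ 0, ρ (L₂ g) v = v}
      one_mem' := fun v _ => by rw [map_one, map_one]; rfl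
      mul_mem' := fun {g h} hg hh v hv => by
        rw [map_mul, map_mul, Module.End.mul_apply, hh v hv, hg v hv]
      inv_mem' := fun {g} hg v hv => by
        conv_lhs => rw [← hg v hv]
        rw [← Module.End.mul_apply, ← map_mul, ← map_mul, inv_mul_cancel, map_one, map_one]; rfl }
  have hN : N.Normal := ⟨fun g hg x v hv => by
    have hv' : ρ (L₂ x⁻¹) v ∈ eigK E ψ ρ 0 := by
      have h := move_eigK E ψ ρ (E.hL (μ x⁻¹)) hv
      rwa [map_zero] at h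
    rw [map_mul, map_mul, map_mul, map_mul, Module.End.mul_apply, Module.End.mul_apply, hg _ hv',
      ← Module.End.mul_apply, ← map_mul, ← map_mul, mul_inv_cancel, map_one, map_one]; rfl⟩
  have htop := Two.top_of_mem hN (show Two.A₇ ∈ N from fun v hv => by
    have := htriv v hv
    rwa [show θ 1 = ρ (L₂ Two.A₇) from congrArg (fun j => ρ (L₂ j)) (pow_one _)] at this)
  obtain ⟨g, v, hv, hne⟩ := hmove
  obtain ⟨g₂, rfl⟩ : ∃ g₂, μ g₂ = g := ⟨Matrix.SpecialLinearGroup.map ι.symm.toRingHom g, by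
    refine Subtype.ext (Matrix.ext fun i i' => ?_)
    exact ι.apply_symm_apply _⟩
  exact hne ((htop ▸ Subgroup.mem_top g₂ : g₂ ∈ N) v hv)

end Cfsg.Agent.OrthMinus
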