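import Cfsg.Agent.OrthMinus.AltTwo
import Cfsg.Agent.Classical.QuadStd

/-!
The data of the stabiliser of a maximal totally singular subspace in minus type.
-/

set_option autoImplicit false
set_option linter.unusedSectionVars false

namespace Cfsg.Agent.OrthMinus

open Matrix Module SLDeg OrthDeg QuadraticMap Classical.Quad

variable {F : Type*} [Field F] {r : ℕ} (a b : F)

/-- A bilinear form whose diagonal is the binary form. -/
def bb (z z' : F × F) : F := z.1 * z'.1 + a * z.1 * z'.2 + b * z.2 * z'.2

theorem bb_diag (z : F × F) : bb a b z z = binForm a b z := by rw [binForm_apply, bb]; ring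

theorem bb_polar (z z' : F × F) : bb a b z z' + bb a b z' z = polar (binForm a b) z z' := by
  rw [polar_binForm, bb, bb]; ring

theorem bb_add_left (z z' w : F × F) : bb a b (z + z') w = bb a b z w + bb a b z' w := by simp [bb]; ring

theorem bb_add_right (w z z' : F × F) : bb a b w (z + z') = bb a b w z + bb a b w z' := by simp [bb]; ring

theorem bb_smul_left (c : F) (z w : F × F) : bb a b (c • z) w = c * bb a b z w := by simp [bb]; ring

theorem bb_smul_right (c : F) (z w : F × F) : bb a b z (c • w) = c * bb a b z w := by simp [bb]; ring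

theorem bb_zero_left (w : F × F) : bb a b 0 w = 0 := by simp [bb]

theorem bb_zero_right (w : F × F) : bb a b w 0 = 0 := by simp [bb]

theorem bb_qmul (z₀ z z' : F × F) : bb a b (qmul a b z₀ z) (qmul a b z₀ z') = binForm a b z₀ * bb a b z z' := by
  simp only [bb, qmul, binForm_apply]; ring

/-- The central correction of a product. -/
def Dm (u v : Fin r → F × F) : AltM r F :=
  ⟨(Matrix.of fun i j => bb a b (v i) (u j)) - (Matrix.of fun i j => bb a b (v i) (u j))ᵀ,
    by rw [transpose_sub, transpose_transpose, neg_sub], fun i => by simp⟩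

theorem Dm_apply (u v : Fin r → F × F) (i j : Fin r) :
    (Dm a b u v).1 i j = bb a b (v i) (u j) - bb a b (v j) (u i) := rfl

theorem pair_Dm (K : AltM r F) (u v : Fin r → F × F) :
    pair K (Dm a b u v) = ∑ i, ∑ j, bb a b (v i) (u j) * K.1 i j := by
  rw [pair_comm, pair_eq (M := Matrix.of fun i j => bb a b (v i) (u j)) (K := Dm a b u v) rfl, ← sum_eq_trace]
  rfl

/-- The vector supported at one index. -/
def sgl (i : Fin r) (z : F × F) : Fin r → F × F := Pi.single i z

theorem sgl_same (i : Fin r) (z : F × F) : sgl i z i = z := by rw [sgl, Pi.single_eq_same]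

theorem sgl_ne {i j : Fin r} (h : j ≠ i) (z : F × F) : sgl i z j = 0 := by rw [sgl, Pi.single_eq_of_ne h]

theorem sgl_add (i : Fin r) (z z' : F × F) : sgl i (z + z') = sgl i z + sgl i z' := by
  rw [sgl, sgl, sgl, Pi.single_add]

theorem sgl_zero (i : Fin r) : sgl i (0 : F × F) = 0 := by rw [sgl, Pi.single_zero]

/-- A matrix acting on a family. -/
def mv (A : Matrix (Fin r) (Fin r) F) (u : Fin r → F × F) : Fin r → F × F := fun i => ∑ j, A i j • u j

/-- The data of the stabiliser of a maximal totally singular subspace. -/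
structure HFrame (m : ℕ) (F : Type*) [Field F] (a b : F) (G : Type*) [Group G] where
  x : AddChar (AltM (m + 3) F) G
  wv : (Fin (m + 3) → F × F) → G
  wv_mul : ∀ u v, wv u * wv v = wv (u + v) * x (Dm a b u v)
  wv_x : ∀ u B, wv u * x B = x B * wv u
  L : SLn (m + 3) F →* G
  hL : ∀ A B, L A * x (act A.1ᵀ B) = x B * L A
  hLw : ∀ A u, L A * wv u = wv (mv (A⁻¹).1ᵀ u) * L A
  rot : (F × F) →ₗ[F] F × F
  rot_surj : Function.Surjective (rot - LinearMap.id : (F × F) →ₗ[F] F × F)
  h : G
  h_x : ∀ B, h * x B = x B * h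
  h_wv : ∀ u, h * wv u = wv (fun i => rot (u i)) * h
  th : G →* G
  th_x : ∀ B, ∃ (C : AltM (m + 3) F) (t : Fin (m + 3) → F) (ht : t ⬝ᵥ e 0 = 0),
    C.1 0 1 = 0 ∧ th (x B) = x C * L (tv (e 0) t ht)

end Cfsg.Agent.OrthMinus
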