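import Cfsg.Agent.SUDeg.Eigen

/-!
Decomposition of a space under a finite abelian group: dimensions and maps between eigenspaces.
-/

set_option autoImplicit false

namespace Cfsg.Agent.OrthMinus

open Module SUDeg

variable {A : Type*} [AddCommGroup A] [Finite A] {W : Type*} [AddCommGroup W] [Module ℂ W] [FiniteDimensional ℂ W]

/-- The dimensions of the eigenspaces add up. -/
theorem sum_finrank_eig [Fintype (AddChar A ℂ)] (φ : AddChar A (Module.End ℂ W)) :
    ∑ χ : AddChar A ℂ, finrank ℂ (eig φ ⊤ χ) = finrank ℂ W := by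
  classical
  refine le_antisymm ?_ ?_
  · have h := sum_finrank_le (φ := φ) (C := ⊤) (Finset.univ : Finset (AddChar A ℂ))
    rwa [finrank_top] at h
  let L : (Π χ : AddChar A ℂ, eig φ ⊤ χ) →ₗ[ℂ] W := ∑ χ, (eig φ ⊤ χ).subtype.comp (LinearMap.proj χ)
  have hL : Function.Surjective L := fun v => by
    refine ⟨fun χ => ⟨proj φ χ v, proj_mem (C := ⊤) (fun _ _ _ => Submodule.mem_top) χ Submodule.mem_top⟩, ?_⟩
    obtain ⟨i, hi⟩ := sum_proj (φ := φ) v
    simp only [L, LinearMap.sum_apply, LinearMap.comp_apply, LinearMap.proj_apply, Submodule.subtype_apply]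
    convert hi using 2
    exact Finset.ext fun x => by simp
  calc finrank ℂ W = finrank ℂ (LinearMap.range L) := by rw [LinearMap.range_eq_top.2 hL, finrank_top]
    _ ≤ finrank ℂ (Π χ : AddChar A ℂ, eig φ ⊤ χ) := LinearMap.finrank_range_le L
    _ = _ := Module.finrank_pi_fintype ℂ

/-- An injective map between subspaces. -/
theorem finrank_le_of_maps (f : Module.End ℂ W) (hf : Function.Injective f) {U U' : Submodule ℂ W}
    (h : ∀ v ∈ U, f v ∈ U') : finrank ℂ U ≤ finrank ℂ U' :=
  LinearMap.finrank_le_finrank_of_injective (f := (f.restrict (p := U) (q := U') h)) fun v w e =>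
    Subtype.ext (hf (congrArg Subtype.val e))

theorem rep_injective {G : Type*} [Group G] (ρ : Representation ℂ G W) (g : G) : Function.Injective (ρ g) :=
  Function.LeftInverse.injective (g := ρ g⁻¹) fun v => by
    rw [← Module.End.mul_apply, ← map_mul, inv_mul_cancel, map_one, Module.End.one_apply]

end Cfsg.Agent.OrthMinus
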