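import Cfsg.Agent.OrthMinus.CaseTwo
import Cfsg.Agent.OrthMinus.CaseFour
import Cfsg.Agent.OrthMinus.CaseFive
import Cfsg.Agent.OrthDeg.SLRep
import Cfsg.Agent.OrthDeg.Plus
import Cfsg.Agent.Classical.OrthSimple

/-!
The smallest degree of a nontrivial irreducible representation of a commutator subgroup of an isometry group of minus
type.
-/

set_option autoImplicit false
set_option linter.unusedSectionVars false

namespace Cfsg.Agent.OrthMinus

open Matrix Module SLDeg OrthDeg QuadraticMap Classical.Quad SUDeg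

variable {F : Type*} [Field F] [Fintype F] {a b : F} {m : ℕ}
variable (hab : ∀ z₁ z₂ : F, z₁ ^ 2 + a * z₁ * z₂ + b * z₂ ^ 2 = 0 → z₁ = 0 ∧ z₂ = 0)

include hab in
theorem finite_OM (r : ℕ) : Finite (OM r a b) :=
  Finite.of_injective (fun g => fun x => g.1 x) fun _ _ e => ext_oG (congrFun e)

include hab in
/-- A nontrivial irreducible representation of the commutator subgroup has central kernel. -/
theorem kernel_central {k : ℕ} (ρ : Representation ℂ (OmM (m + 3) a b) (Fin k → ℂ)) (hirr : ρ.IsIrreducible)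
    (hk : 2 ≤ k) (g : OmM (m + 3) a b) (hg : ρ g = 1) : g ∈ Subgroup.center (OmM (m + 3) a b) := by
  classical
  have hQ := nondeg_minus (r := m + 3) hab
  have hn5 : 5 ≤ finrank F (Sp (m + 3) F) := by rw [finrank_Sp]; omega
  have heo := eo_eq_commutator hQ (by rw [finrank_Sp]; omega) (Or.inr (by rw [finrank_Sp]; omega))
  have hsimple : IsSimpleGroup (OmM (m + 3) a b ⧸ Subgroup.center (OmM (m + 3) a b)) := by
    have s := isSimpleGroup_eo_quot hQ hn5
    rw [heo] at s
    exact s
  have hperf : commutator (OmM (m + 3) a b) = ⊤ := perfect_of_le _ (by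
    have h := eo_le_commutator_eo hQ hn5
    rwa [heo] at h)
  rcases ((Subgroup.Normal.map (inferInstance : (MonoidHom.ker ρ).Normal) _
    (QuotientGroup.mk'_surjective (Subgroup.center (OmM (m + 3) a b))))).eq_bot_or_eq_top with h | h
  · have := Subgroup.mem_map_of_mem (QuotientGroup.mk' (Subgroup.center (OmM (m + 3) a b))) (MonoidHom.mem_ker.2 hg)
    rw [h, Subgroup.mem_bot] at this
    exact (QuotientGroup.eq_one_iff g).1 this
  exfalso
  have hcen : ∀ x y : OmM (m + 3) a b, ρ x * ρ y = ρ y * ρ x := by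
    intro x y
    obtain ⟨x', hx', hxx⟩ : QuotientGroup.mk' (Subgroup.center (OmM (m + 3) a b)) x ∈
        (MonoidHom.ker ρ).map (QuotientGroup.mk' (Subgroup.center (OmM (m + 3) a b))) := h ▸ Subgroup.mem_top _
    have hz : x'⁻¹ * x ∈ Subgroup.center (OmM (m + 3) a b) := QuotientGroup.eq.1 hxx
    have e : ρ x = ρ (x'⁻¹ * x) := by
      conv_lhs => rw [show x = x' * (x'⁻¹ * x) by group]
      rw [map_mul, MonoidHom.mem_ker.1 hx', one_mul]
    rw [e, ← map_mul, ← map_mul, Subgroup.mem_center_iff.1 hz y]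
  have htriv : ∀ g, ρ g = 1 := fun g => trivial_of_commuting ρ hperf hcen g
  have := SLDeg.no_trivial ρ hirr hk (v := Pi.single ⟨0, by omega⟩ 1) fun g => by rw [htriv g]; rfl
  simpa using congrFun this ⟨0, by omega⟩

include hab in
/-- A long root element is not central. -/
theorem long_root_notMem {E : HFrame m F a b (OmM (m + 3) a b)} (hx : ∀ B, (E.x B).1 = xO' hab B) :
    E.x (K0t m F) ∉ Subgroup.center (OmM (m + 3) a b) := by
  classical
  intro hz
  have h12 : (1 : Fin (m + 3)) ≠ 2 := by simp [Fin.ext_iff, Nat.mod_eq_of_lt (show 2 < m + 3 by omega)]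
  let A : SLn (m + 3) F := tv (e 1) (e 2) (by simp [e_ne h12])
  have h1 := E.hL A (K0t m F)
  rw [← Subgroup.mem_center_iff.1 hz (E.L A), mul_left_cancel_iff] at h1
  have h2 : act A.1ᵀ (K0t m F) = K0t m F := xO'_injective hab (by rw [← hx, ← hx, h1])
  have h3 := congrArg (fun K : AltM (m + 3) F => K.1 0 2) h2
  have h01 : (0 : Fin (m + 3)) ≠ 1 := by simp
  have h02 : (0 : Fin (m + 3)) ≠ 2 := by simp [Fin.ext_iff, Nat.mod_eq_of_lt (show 2 < m + 3 by omega)]
  have ev : ∀ v : Fin (m + 3) → F, A.1ᵀ *ᵥ v = v + v 1 • e 2 := fun v => by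
    funext i
    simp [A, tv, Matrix.transpose_add, Matrix.transpose_vecMulVec, Matrix.add_mulVec, Matrix.vecMulVec_mulVec, mul_comm]
  simp only [K0t, act_wedge, ev, wedge_apply, Pi.add_apply, Pi.smul_apply, smul_eq_mul, e_self, e_ne h01,
    e_ne h01.symm, e_ne h02, e_ne h02.symm, e_ne h12, e_ne h12.symm] at h3
  simp at h3

include hab in
/-- The degree bound. -/
theorem min_degree (k : ℕ) (ρ : Representation ℂ (OmM (m + 3) a b) (Fin k → ℂ)) (hirr : ρ.IsIrreducible)
    (hk : 2 ≤ k) : num (Fintype.card F) m / (Fintype.card F ^ 2 - 1) ≤ k := by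
  classical
  haveI := finite_OM hab (m + 3)
  set q := Fintype.card F with hqdef
  have hq : 2 ≤ q := Fintype.one_lt_card
  refine Nat.div_le_of_le_mul ?_
  rw [mul_comm _ k]
  by_contra hlt
  push Not at hlt
  obtain ⟨E, hx, hL, hth⟩ := exists_frame (m := m) hab
  obtain ⟨ψ, hψ⟩ := SLDeg.exists_addChar_ne_one (F := F)
  have hker := kernel_central hab ρ hirr hk
  have hcen := long_root_notMem hab hx
  have hnt : ∃ B, ρ (E.x B) ≠ 1 := ⟨K0t m F, fun h => hcen (hker _ h)⟩
  have hnt' : ∃ B, ρ (E.th (E.x B)) ≠ 1 := ⟨K0t m F, fun h => hcen (by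
    refine Subgroup.mem_center_iff.2 fun g => hth ?_
    rw [map_mul, map_mul]
    exact Subgroup.mem_center_iff.1 (hker _ h) _)⟩
  haveI : Fintype (O2t m F) := Fintype.ofFinite _
  obtain ⟨h1, hkeq⟩ := small E ρ hψ hab hnt hlt
  have hmove := moves E ρ hψ hab hnt hnt' hlt
  obtain ⟨f, hf⟩ : ∃ f, f = finrank ℂ (eigK E ψ ρ 0) := ⟨_, rfl⟩
  rw [← hf] at hkeq
  have hN := card_O2t_mul (m := m) (F := F)
  rw [← hqdef] at hN hkeq
  have hdvd : q - 1 ∣ q ^ (m + 3) - q := by
    rw [show q ^ (m + 3) - q = q * (q ^ (m + 2) - 1) by rw [Nat.mul_sub, mul_one, pow_succ']]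
    exact (by simpa using Nat.sub_dvd_pow_sub_pow q 1 (m + 2) : q - 1 ∣ q ^ (m + 2) - 1).mul_left q
  obtain ⟨τ, hτ⟩ := hdvd
  obtain ⟨N, hNdef⟩ : ∃ N, N = Fintype.card (O2t m F) := ⟨_, rfl⟩
  rw [← hNdef] at hN hkeq
  have hft : f < τ := by
    by_contra hc
    push Not at hc
    refine absurd hlt (not_lt.2 ?_)
    rw [num_eq q m N τ hq hN hτ, hkeq]
    exact Nat.mul_le_mul_right _ (by omega)
  -- the representation of the linear group on the fixed space
  have hinv : ∀ g, ∀ v ∈ eigK E ψ ρ 0, ρ (E.L g) v ∈ eigK E ψ ρ 0 := fun g v hv => by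
    have h := move_eigK E ψ ρ (E.hL g) hv
    rwa [map_zero] at h
  by_cases hgen : (m = 0 → q ≠ 2 ∧ q ≠ 4) ∧ (m = 1 → 3 < q)
  · let π : Representation ℂ (SLn (m + 3) F) (eigK E ψ ρ 0) :=
      { toFun := fun g => (ρ (E.L g)).restrict (hinv g)
        map_one' := by ext w; simp
        map_mul' := fun g g' => by ext w; simp }
    obtain ⟨g, v, hv, hgv⟩ := hmove
    have h := sl_rep_large_gen π hgen.1 hgen.2 ⟨g, ⟨v, hv⟩, fun h => hgv (congrArg Subtype.val h)⟩
    rw [← hqdef, hτ, Nat.mul_div_cancel_left _ (show 0 < q - 1 by omega), ← hf] at h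
    omega
  have hf1 : 1 ≤ f := by
    obtain ⟨g, v, hv, hgv⟩ := hmove
    rw [hf]
    refine Submodule.one_le_finrank_iff.2 fun h => hgv ?_
    rw [h, Submodule.mem_bot] at hv
    rw [hv, map_zero]
  have hdiv : k ∣ Nat.card (OM (m + 3) a b) := by
    refine (Char.IsIrr.degree_dvd_card (χ := ρ.character) ⟨k, ρ, hirr, rfl⟩ ?_).trans
      (Subgroup.card_subgroup_dvd_card _)
    rw [Representation.char_one, Module.finrank_fin_fun]
  rw [card_oG_minus hab (show Fintype.card F = q from rfl)] at hdiv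
  have hchar : Even q → (2 : F) = 0 := fun h => by
    have h' := FiniteField.cast_card_eq_zero F
    by_contra h2
    have hodd : ringChar F ≠ 2 := fun hc => h2 (by
      haveI : CharP F 2 := hc ▸ ringChar.charP F
      exact CharTwo.two_eq_zero)
    exact (Nat.not_even_iff.2 (FiniteField.odd_card_of_char_ne_two hodd)) h
  obtain ⟨rfl, hq'⟩ | ⟨rfl, hq'⟩ : (m = 0 ∧ (q = 2 ∨ q = 4)) ∨ (m = 1 ∧ (q = 2 ∨ q = 3)) := by omega
  · rcases hq' with hq' | hq'
    · have h6 := six_le E ρ hq' hψ (exists_swap hab (hchar ⟨1, hq'⟩) hL) hmove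
      rw [← hf] at h6
      rw [hq'] at hτ
      norm_num at hτ
      omega
    · obtain ⟨h12, h16⟩ := four_case E ρ hq' hψ (exists_outer hab (hchar ⟨2, hq'⟩) hx hL) hmove
      rw [← hf] at h12 h16
      rw [hq'] at hτ hN hkeq
      norm_num at hτ hN hkeq
      rw [hq'] at hdiv
      norm_num [Finset.prod_range_succ] at hdiv
      have hk1 : 1009 ≤ k := by omega
      have hk2 : k ≤ 1027 := by omega
      obtain h | h : k = 1020 ∨ k = 1024 := by
        rcases hdiv with ⟨c, hc⟩
        interval_cases k <;> omega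
      all_goals omega
  · rcases hq' with hq' | hq'
    · rw [hq'] at hdiv
      norm_num [Finset.prod_range_succ] at hdiv
      set g₀ := E.x (K0t 1 F)
      have hd := defect_eq E ρ hψ h1
      letI : Fintype (OrthDeg.O2 0 F) := ‹Fintype (O2t 1 F)›
      have hs : ∑ K : O2t 1 F, (1 - ψ (K.1.1 0 1)) = (Fintype.card F : ℂ) ^ 5 := by
        refine Eq.trans ?_ (OrthDeg.sum_defect (m := 0) hψ)
        exact Fintype.sum_equiv (Equiv.refl _) _ _ fun K => rfl
      rw [hs, ← hqdef, hq'] at hd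
      norm_num at hd
      set ix := (Subgroup.centralizer ({g₀} : Set (OmM 4 a b))).index
      have hint := Char.centralCharacter_isIntegral (χ := ρ.character) ⟨k, ρ, hirr, rfl⟩ g₀
      rw [Representation.char_one, Module.finrank_fin_fun] at hint
      have hdk : k ∣ ix * 128 := by
        refine Char.nat_dvd_of_isIntegral (by omega) ?_
        have e : ((ix * 128 : ℕ) : ℂ) / k = (ix : ℂ) - (ix : ℂ) * ρ.character g₀ / k := by
          have hk0 : (k : ℂ) ≠ 0 := Nat.cast_ne_zero.2 (by omega)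
          field_simp
          push_cast
          linear_combination -(ix : ℂ) * hd
        rw [e]
        exact (isIntegral_algebraMap (x := (ix : ℤ))).sub hint
      rw [hq'] at hτ hN hkeq
      norm_num at hτ hN hkeq
      exact no_degree k ix (by omega) (by omega) hdiv (index_centralizer_dvd hab hq' hx) hdk
    · rw [hq'] at hτ hN hkeq hdiv
      norm_num [Finset.prod_range_succ] at hτ hN hkeq hdiv
      have hk1 : 2341 ≤ k := by omega
      have hk2 : k ≤ 2378 := by omega
      rcases hdiv with ⟨c, hc⟩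
      interval_cases k <;> omega

end Cfsg.Agent.OrthMinus
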