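import Cfsg.Agent.OrthMinus.Frame
import Cfsg.Agent.Classical.OrthIndex
import Cfsg.Agent.Classical.LinearBasic

/-!
The stabiliser of a maximal totally singular subspace in an isometry group of minus type.
-/

set_option autoImplicit false
set_option linter.unusedSectionVars false

namespace Cfsg.Agent.OrthMinus

open Matrix Module SLDeg OrthDeg QuadraticMap Classical.Quad
open scoped commutatorElement

variable {F : Type*} [Field F] {r m : ℕ} {a b : F}

/-- The coordinates. -/
abbrev Sp (r : ℕ) (F : Type*) [Field F] := ((Fin r → F) × (Fin r → F)) × (F × F)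

/-- The isometry group. -/
abbrev OM (r : ℕ) (a b : F) := oG (hyp (binForm a b) r)

theorem bb_sum_left {n : ℕ} (c : Fin n → F) (z : Fin n → F × F) (w : F × F) :
    bb a b (∑ i, c i • z i) w = ∑ i, c i * bb a b (z i) w := by
  simp only [bb, Prod.fst_sum, Prod.snd_sum, Prod.smul_fst, Prod.smul_snd, smul_eq_mul, Finset.mul_sum,
    Finset.sum_mul, ← Finset.sum_add_distrib]
  exact Finset.sum_congr rfl fun i _ => by ring

theorem bb_sum_right {n : ℕ} (c : Fin n → F) (z : Fin n → F × F) (w : F × F) :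
    bb a b w (∑ i, c i • z i) = ∑ i, c i * bb a b w (z i) := by
  simp only [bb, Prod.fst_sum, Prod.snd_sum, Prod.smul_fst, Prod.smul_snd, smul_eq_mul, Finset.mul_sum,
    ← Finset.sum_add_distrib]
  exact Finset.sum_congr rfl fun i _ => by ring

/-- The image of a vector of the first subspace in the plane. -/
def tt (u : Fin r → F × F) (U : Fin r → F) : F × F := ∑ i, U i • u i

/-- An element of the radical as a linear map. -/
noncomputable def wLin (a b : F) (u : Fin r → F × F) : Sp r F →ₗ[F] Sp r F where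
  toFun p := ((p.1.1, fun i => p.1.2 i - bb a b (u i) (tt u p.1.1) - polar (binForm a b) p.2 (u i)),
    p.2 + tt u p.1.1)
  map_add' p p' := by
    have e : tt u (p.1.1 + p'.1.1) = tt u p.1.1 + tt u p'.1.1 := by
      simp [tt, add_smul, Finset.sum_add_distrib]
    refine Prod.ext (Prod.ext rfl (funext fun i => ?_)) ?_
    · simp only [Prod.fst_add, Prod.snd_add, Pi.add_apply, e, bb_add_right, QuadraticMap.polar_add_left]
      ring
    · simp only [Prod.fst_add, Prod.snd_add, e]
      abel
  map_smul' c p := by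
    have e : tt u (c • p.1.1) = c • tt u p.1.1 := by simp [tt, Finset.smul_sum, smul_smul]
    refine Prod.ext (Prod.ext rfl (funext fun i => ?_)) ?_
    · simp only [Prod.smul_fst, Prod.smul_snd, Pi.smul_apply, e, bb_smul_right, QuadraticMap.polar_smul_left,
        RingHom.id_apply, smul_eq_mul]
      ring
    · simp only [Prod.smul_fst, Prod.smul_snd, e, RingHom.id_apply, smul_add]

theorem wLin_Q (u : Fin r → F × F) (p : Sp r F) :
    hyp (binForm a b) r (wLin a b u p) = hyp (binForm a b) r p := by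
  rw [hyp_apply, hyp_apply]
  show (∑ i, p.1.1 i * (p.1.2 i - bb a b (u i) (tt u p.1.1) - polar (binForm a b) p.2 (u i))) +
    binForm a b (p.2 + tt u p.1.1) = _
  have e1 : ∑ i, p.1.1 i * bb a b (u i) (tt u p.1.1) = bb a b (tt u p.1.1) (tt u p.1.1) :=
    (bb_sum_left p.1.1 u _).symm
  have e2 : ∑ i, p.1.1 i * polar (binForm a b) p.2 (u i) = polar (binForm a b) p.2 (tt u p.1.1) := by
    rw [← bb_polar, tt, bb_sum_left, bb_sum_right, ← Finset.sum_add_distrib]
    exact Finset.sum_congr rfl fun i _ => by rw [← bb_polar]; ring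
  simp only [mul_sub, Finset.sum_sub_distrib, e1, e2, bb_diag, map_add']
  ring

/-- The central element as a linear map. -/
noncomputable def xLin (B : AltM r F) : Sp r F →ₗ[F] Sp r F where
  toFun p := ((p.1.1, p.1.2 + B.1 *ᵥ p.1.1), p.2)
  map_add' p p' := by
    refine Prod.ext (Prod.ext rfl ?_) rfl
    simp [Matrix.mulVec_add]; abel
  map_smul' c p := by
    refine Prod.ext (Prod.ext rfl ?_) rfl
    simp [Matrix.mulVec_smul]

theorem quad_alt' (B : AltM r F) (u : Fin r → F) : u ⬝ᵥ B.1 *ᵥ u = 0 := by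
  rw [← upper_sub B, sub_mulVec, dotProduct_sub, sub_eq_zero, mulVec_transpose]
  exact (dotProduct_mulVec u _ u).trans (dotProduct_comm _ _)

theorem xLin_Q (B : AltM r F) (p : Sp r F) : hyp (binForm a b) r (xLin B p) = hyp (binForm a b) r p := by
  rw [hyp_apply, hyp_apply]
  show (∑ i, p.1.1 i * (p.1.2 i + (B.1 *ᵥ p.1.1) i)) + binForm a b p.2 = _
  have h : ∑ i, p.1.1 i * (B.1 *ᵥ p.1.1) i = 0 := quad_alt' B p.1.1
  simp only [mul_add, Finset.sum_add_distrib, h, add_zero]

variable [Finite F] (hab : ∀ z₁ z₂ : F, z₁ ^ 2 + a * z₁ * z₂ + b * z₂ ^ 2 = 0 → z₁ = 0 ∧ z₂ = 0)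

include hab in
theorem nondeg_minus : (polarBilin (hyp (binForm a b) r)).Nondegenerate := nondeg_hyp (nondeg_binForm hab) r

/-- An isometry from a linear map preserving the form. -/
noncomputable def oOf (f : Sp r F →ₗ[F] Sp r F) (hf : ∀ p, hyp (binForm a b) r (f p) = hyp (binForm a b) r p) :
    OM r a b :=
  ⟨LinearEquiv.ofInjectiveEndo f (LinearMap.ker_eq_bot.1 (LinearMap.ker_eq_bot'.2 fun p hp =>
      eq_zero_of_polar (nondeg_minus hab) fun y => by
        have h : polar (hyp (binForm a b) r) (f p) (f y) = polar (hyp (binForm a b) r) p y := by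
          simp only [polar, ← map_add, hf]
        rw [← h, hp]
        simp [polar])),
    fun p => hf p⟩

theorem oOf_apply (f : Sp r F →ₗ[F] Sp r F) (hf : ∀ p, hyp (binForm a b) r (f p) = hyp (binForm a b) r p)
    (p : Sp r F) : (oOf hab f hf).1 p = f p := rfl

/-- An element of the radical. -/
noncomputable def wO (u : Fin r → F × F) : OM r a b := oOf hab (wLin a b u) (wLin_Q u)

/-- A central element of the radical. -/
noncomputable def xO' (B : AltM r F) : OM r a b := oOf hab (xLin B) (xLin_Q B)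

theorem wO_apply (u : Fin r → F × F) (p : Sp r F) : (wO hab u).1 p =
    ((p.1.1, fun i => p.1.2 i - bb a b (u i) (tt u p.1.1) - polar (binForm a b) p.2 (u i)), p.2 + tt u p.1.1) := rfl

theorem xO'_apply (B : AltM r F) (p : Sp r F) : (xO' hab B).1 p = ((p.1.1, p.1.2 + B.1 *ᵥ p.1.1), p.2) := rfl

theorem xO'_add (B C : AltM r F) : xO' hab (B + C) = xO' hab B * xO' hab C := ext_oG fun p => by
  rw [oG_mul_apply]
  refine Prod.ext (Prod.ext rfl ?_) rfl
  show p.1.2 + (B.1 + C.1) *ᵥ p.1.1 = p.1.2 + C.1 *ᵥ p.1.1 + B.1 *ᵥ p.1.1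
  rw [Matrix.add_mulVec]; abel

theorem xO'_injective : Function.Injective (xO' (r := r) hab) := fun B C h => by
  refine Subtype.ext (Matrix.ext_of_mulVec_single fun i => ?_)
  have := congrArg (fun g : OM r a b => (g.1 ((Pi.single i 1, 0), 0)).1.2) h
  simpa [xO', oOf_apply, xLin] using this

theorem wO_mul (u v : Fin r → F × F) : wO hab u * wO hab v = wO hab (u + v) * xO' hab (Dm a b u v) :=
  ext_oG fun p => by
    rw [oG_mul_apply, oG_mul_apply]
    obtain ⟨⟨U, W⟩, z⟩ := p
    have et : tt (u + v) U = tt u U + tt v U := by simp [tt, smul_add, Finset.sum_add_distrib]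
    refine Prod.ext (Prod.ext rfl (funext fun i => ?_)) ?_
    · show W i - bb a b (v i) (tt v U) - polar (binForm a b) z (v i) - bb a b (u i) (tt u U) -
          polar (binForm a b) (z + tt v U) (u i) =
        W i + ((Dm a b u v).1 *ᵥ U) i - bb a b ((u + v) i) (tt (u + v) U) - polar (binForm a b) z ((u + v) i)
      have e : ((Dm a b u v).1 *ᵥ U) i = bb a b (v i) (tt u U) - bb a b (tt v U) (u i) := by
        rw [tt, tt, bb_sum_right, bb_sum_left, ← Finset.sum_sub_distrib]
        simp only [mulVec, dotProduct]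
        exact Finset.sum_congr rfl fun j _ => by rw [Dm_apply]; ring
      rw [e, et, Pi.add_apply, QuadraticMap.polar_add_left, QuadraticMap.polar_add_right, ← bb_polar a b (tt v U)]
      simp only [bb_add_left, bb_add_right]
      ring
    · show z + tt v U + tt u U = z + tt (u + v) U
      rw [et]; abel

theorem wO_xO (u : Fin r → F × F) (B : AltM r F) : wO hab u * xO' hab B = xO' hab B * wO hab u :=
  ext_oG fun p => by
    rw [oG_mul_apply, oG_mul_apply, xO'_apply, wO_apply, wO_apply, xO'_apply]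
    obtain ⟨⟨U, W⟩, z⟩ := p
    refine Prod.ext (Prod.ext rfl (funext fun i => ?_)) rfl
    simp only [Pi.add_apply]
    ring

include hab in
theorem exists_levi (A : Matrix (Fin r) (Fin r) F) (Ai : Matrix (Fin r) (Fin r) F) (h : Ai * A = 1) :
    ∃ g : OM r a b, ∀ p, g.1 p = ((A *ᵥ p.1.1, Aiᵀ *ᵥ p.1.2), p.2) := by
  let f : Sp r F →ₗ[F] Sp r F :=
    { toFun := fun p => ((A *ᵥ p.1.1, Aiᵀ *ᵥ p.1.2), p.2)
      map_add' := fun p p' => by
        refine Prod.ext (Prod.ext ?_ ?_) rfl <;> simp [Matrix.mulVec_add]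
      map_smul' := fun c p => by
        refine Prod.ext (Prod.ext ?_ ?_) rfl <;> simp [Matrix.mulVec_smul] }
  refine ⟨oOf hab f fun p => ?_, fun p => rfl⟩
  rw [hyp_apply, hyp_apply]
  show (A *ᵥ p.1.1) ⬝ᵥ (Aiᵀ *ᵥ p.1.2) + binForm a b p.2 = p.1.1 ⬝ᵥ p.1.2 + binForm a b p.2
  rw [Matrix.mulVec_transpose, dotProduct_comm, ← Matrix.dotProduct_mulVec, Matrix.mulVec_mulVec, h, Matrix.one_mulVec,
    dotProduct_comm]

theorem inv_mul_val (A : SLn r F) : (A⁻¹).1 * A.1 = 1 := by
  rw [← Matrix.SpecialLinearGroup.coe_mul, inv_mul_cancel, Matrix.SpecialLinearGroup.coe_one]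

/-- The Levi embedding. -/
noncomputable def LO' : SLn r F →* OM r a b :=
  MonoidHom.mk' (fun A => (exists_levi hab A.1 (A⁻¹).1 (inv_mul_val A)).choose) fun A B => ext_oG fun p => by
    rw [oG_mul_apply, (exists_levi hab (A * B).1 ((A * B)⁻¹).1 (inv_mul_val _)).choose_spec,
      (exists_levi hab A.1 (A⁻¹).1 (inv_mul_val _)).choose_spec, (exists_levi hab B.1 (B⁻¹).1 (inv_mul_val _)).choose_spec,
      _root_.mul_inv_rev, Matrix.SpecialLinearGroup.coe_mul, Matrix.SpecialLinearGroup.coe_mul, transpose_mul]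
    simp [Matrix.mulVec_mulVec]

theorem LO'_apply (A : SLn r F) (p : Sp r F) :
    (LO' hab A).1 p = ((A.1 *ᵥ p.1.1, (A⁻¹).1ᵀ *ᵥ p.1.2), p.2) :=
  (exists_levi hab A.1 (A⁻¹).1 (inv_mul_val A)).choose_spec p

theorem LO'_xO (A : SLn r F) (B : AltM r F) :
    LO' hab A * xO' hab (act A.1ᵀ B) = xO' hab B * LO' hab A := ext_oG fun p => by
  rw [oG_mul_apply, oG_mul_apply]
  obtain ⟨⟨U, W⟩, z⟩ := p
  show (LO' hab A).1 ((U, W + (act A.1ᵀ B).1 *ᵥ U), z) = xLin B ((LO' hab A).1 ((U, W), z))
  rw [LO'_apply, LO'_apply]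
  refine Prod.ext (Prod.ext rfl ?_) rfl
  show (A⁻¹).1ᵀ *ᵥ (W + (act A.1ᵀ B).1 *ᵥ U) = (A⁻¹).1ᵀ *ᵥ W + B.1 *ᵥ (A.1 *ᵥ U)
  rw [Matrix.mulVec_add, Matrix.mulVec_mulVec, Matrix.mulVec_mulVec, act_val, transpose_transpose,
    ← Matrix.mul_assoc, ← Matrix.mul_assoc, ← transpose_mul, ← Matrix.SpecialLinearGroup.coe_mul, mul_inv_cancel,
    Matrix.SpecialLinearGroup.coe_one, transpose_one, Matrix.one_mul]

theorem LO'_wO (A : SLn r F) (u : Fin r → F × F) :
    LO' hab A * wO hab u = wO hab (mv (A⁻¹).1ᵀ u) * LO' hab A := ext_oG fun p => by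
  rw [oG_mul_apply, oG_mul_apply]
  obtain ⟨⟨U, W⟩, z⟩ := p
  set u' := mv (A⁻¹).1ᵀ u with hu'
  have et : tt u' (A.1 *ᵥ U) = tt u U := by
    rw [tt, tt, hu']
    simp only [mv, Finset.smul_sum, smul_smul, transpose_apply]
    rw [Finset.sum_comm]
    refine Finset.sum_congr rfl fun j _ => ?_
    rw [← Finset.sum_smul]
    congr 1
    have h : ((A⁻¹).1 *ᵥ (A.1 *ᵥ U)) j = U j := by rw [Matrix.mulVec_mulVec, inv_mul_val, Matrix.one_mulVec]
    conv_rhs => rw [← h]
    exact Finset.sum_congr rfl fun i _ => mul_comm _ _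
  show (LO' hab A).1 (wLin a b u ((U, W), z)) = wLin a b u' ((LO' hab A).1 ((U, W), z))
  rw [LO'_apply, LO'_apply]
  refine Prod.ext (Prod.ext rfl (funext fun i => ?_)) ?_
  · show ((A⁻¹).1ᵀ *ᵥ fun j => W j - bb a b (u j) (tt u U) - polar (binForm a b) z (u j)) i =
      ((A⁻¹).1ᵀ *ᵥ W) i - bb a b (u' i) (tt u' (A.1 *ᵥ U)) - polar (binForm a b) z (u' i)
    rw [et, hu', mv, bb_sum_left, ← bb_polar, bb_sum_left, bb_sum_right, ← Finset.sum_add_distrib]
    simp only [mulVec, dotProduct, mul_sub, Finset.sum_sub_distrib, ← bb_polar a b z, mul_add]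
  · exact congrArg (z + ·) et.symm

/-- A rotation of the plane extended to the space. -/
noncomputable def planeO (g : oG (binForm a b)) : OM r a b :=
  oOf hab (LinearMap.prodMap LinearMap.id (g.1 : F × F →ₗ[F] F × F)) fun p => by
    rw [hyp_apply, hyp_apply]
    show _ + binForm a b (g.1 p.2) = _
    rw [g.2]
    rfl

theorem planeO_apply (g : oG (binForm a b)) (p : Sp r F) : (planeO hab g).1 p = (p.1, g.1 p.2) := rfl

theorem planeO_mul (g g' : oG (binForm a b)) :
    (planeO hab (g * g') : OM r a b) = planeO hab g * planeO hab g' := ext_oG fun p => rfl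

theorem planeO_one : (planeO hab 1 : OM r a b) = 1 := ext_oG fun p => rfl

theorem planeO_xO (g : oG (binForm a b)) (B : AltM r F) : planeO hab g * xO' hab B = xO' hab B * planeO hab g :=
  ext_oG fun p => rfl

theorem planeO_LO (g : oG (binForm a b)) (A : SLn r F) : planeO hab g * LO' hab A = LO' hab A * planeO hab g :=
  ext_oG fun p => by
    rw [oG_mul_apply, oG_mul_apply, planeO_apply, planeO_apply, LO'_apply, LO'_apply]

theorem rot_wO (z₀ : {z : F × F // binForm a b z = 1}) (u : Fin r → F × F) :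
    planeO hab (rotO hab z₀) * wO hab u = wO hab (fun i => qmul a b z₀.1 (u i)) * planeO hab (rotO hab z₀) :=
  ext_oG fun p => by
    rw [oG_mul_apply, oG_mul_apply]
    obtain ⟨⟨U, W⟩, z⟩ := p
    have et : tt (fun i => qmul a b z₀.1 (u i)) U = qmul a b z₀.1 (tt u U) := by
      have h := map_sum (rotO hab z₀).1 (fun i => U i • u i) Finset.univ
      simp only [map_smul] at h
      exact h.symm
    refine Prod.ext (Prod.ext rfl (funext fun i => ?_)) ?_
    · show W i - bb a b (u i) (tt u U) - polar (binForm a b) z (u i) =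
        W i - bb a b (qmul a b z₀.1 (u i)) (tt (fun i => qmul a b z₀.1 (u i)) U) -
          polar (binForm a b) (qmul a b z₀.1 z) (qmul a b z₀.1 (u i))
      rw [et, ← bb_polar a b (qmul a b z₀.1 z), bb_qmul, bb_qmul, bb_qmul, z₀.2, ← bb_polar a b z]
      ring
    · show (rotO hab z₀).1 (z + tt u U) = qmul a b z₀.1 z + tt (fun i => qmul a b z₀.1 (u i)) U
      rw [map_add, et]
      rfl

include hab in
theorem exists_square_ne_one : ∃ z : {z : F × F // binForm a b z = 1}, qmul a b z.1 z.1 ≠ (1, 0) := by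
  classical
  have := Fintype.ofFinite F
  by_contra hc
  push Not at hc
  let one : {z : F × F // binForm a b z = 1} := ⟨(1, 0), by simp [binForm_apply]⟩
  let neg : {z : F × F // binForm a b z = 1} := ⟨(-1, 0), by simp [binForm_apply]⟩
  have hall : ∀ z : {z : F × F // binForm a b z = 1}, z = one ∨ z = neg := by
    intro z
    have h := hc z
    have e : qmul a b (z.1 - (1, 0)) (z.1 + (1, 0)) = 0 := by
      simp only [qmul, Prod.ext_iff, Prod.fst_sub, Prod.snd_sub, Prod.fst_add, Prod.snd_add, Prod.fst_zero,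
        Prod.snd_zero] at h ⊢
      exact ⟨by linear_combination h.1, by linear_combination h.2⟩
    have e' : binForm a b (z.1 - (1, 0)) * binForm a b (z.1 + (1, 0)) = 0 := by rw [← binForm_qmul, e, map_zero]
    rcases mul_eq_zero.1 e' with h1 | h1
    · exact Or.inl (Subtype.ext (sub_eq_zero.1 (by_contra fun h2 => binForm_ne_zero hab h2 h1)))
    · refine Or.inr (Subtype.ext ?_)
      have := eq_neg_of_add_eq_zero_left (by_contra fun h2 => binForm_ne_zero hab h2 h1)
      simpa [neg] using this
  have h1 := card_norm_one hab (F := F) rfl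
  have h2 : Nat.card {z : F × F // binForm a b z = 1} ≤ 2 := by
    rw [Nat.card_eq_fintype_card, ← Finset.card_univ]
    exact (Finset.card_le_card fun z _ => by rcases hall z with h | h <;> simp [h]).trans
      (Finset.card_le_two (a := one) (b := neg))
  have h3 := Fintype.one_lt_card (α := F)
  omega

include hab in
theorem exists_rot : ∃ z : {z : F × F // binForm a b z = 1}, z.1 ≠ (1, 0) ∧
    (planeO hab (rotO hab z) : OM r a b) ∈ commutator (OM r a b) := by
  obtain ⟨z₀, hz₀⟩ := exists_square_ne_one hab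
  refine ⟨⟨qmul a b z₀.1 z₀.1, by rw [binForm_qmul, z₀.2, mul_one]⟩, hz₀, ?_⟩
  have e1 : rotO hab ⟨qmul a b z₀.1 z₀.1, by rw [binForm_qmul, z₀.2, mul_one]⟩ = rotO hab z₀ * rotO hab z₀ :=
    ext_oG fun x => by
      rw [oG_mul_apply, rotO_apply, rotO_apply, rotO_apply]
      simp only [qmul, Prod.mk.injEq]
      exact ⟨by ring, by ring⟩
  have e2 : rotO hab z₀ * flipO a b * rotO hab z₀ = flipO a b := ext_oG fun x => by
    rw [oG_mul_apply, oG_mul_apply, rotO_apply, rotO_apply, flipO_apply, flipO_apply]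
    have hz := z₀.2
    rw [binForm_apply] at hz
    simp only [qmul, Prod.mk.injEq]
    exact ⟨by linear_combination (x.1 + a * x.2) * hz, by linear_combination (-x.2) * hz⟩
  have e3 : rotO hab z₀ * rotO hab z₀ = ⁅rotO hab z₀, flipO a b⁆ := by
    rw [commutatorElement_def, eq_mul_inv_iff_mul_eq, eq_mul_inv_iff_mul_eq]
    calc rotO hab z₀ * rotO hab z₀ * flipO a b * rotO hab z₀
        = rotO hab z₀ * (rotO hab z₀ * flipO a b * rotO hab z₀) := by group
      _ = _ := by rw [e2]
  let P : oG (binForm a b) →* OM r a b := MonoidHom.mk' (planeO hab) (planeO_mul hab)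
  have hP : P ⁅rotO hab z₀, flipO a b⁆ ∈ commutator (OM r a b) := by
    rw [map_commutatorElement]
    exact Subgroup.commutator_mem_commutator (Subgroup.mem_top _) (Subgroup.mem_top _)
  rw [e1, e3]
  exact hP

include hab in
theorem rot_sub_surj (z : {z : F × F // binForm a b z = 1}) (hz : z.1 ≠ (1, 0)) :
    Function.Surjective (((rotO hab z).1 : F × F →ₗ[F] F × F) - LinearMap.id : (F × F) →ₗ[F] F × F) := by
  refine LinearMap.injective_iff_surjective.1 ((injective_iff_map_eq_zero _).2 fun x hx => ?_)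
  by_contra hx0
  have h : qmul a b (z.1 - (1, 0)) x = 0 := by
    rw [← hx]
    show _ = qmul a b z.1 x - x
    simp only [qmul, Prod.ext_iff, Prod.fst_sub, Prod.snd_sub]
    exact ⟨by ring, by ring⟩
  have h' := congrArg (binForm a b) h
  rw [binForm_qmul, map_zero] at h'
  rcases mul_eq_zero.1 h' with h1 | h1
  · exact binForm_ne_zero hab (sub_ne_zero.2 hz) h1
  · exact binForm_ne_zero hab hx0 h1

/-- The commutator subgroup. -/
abbrev OmM (r : ℕ) (a b : F) := ↥(commutator (OM r a b))

include hab in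
theorem xO'_mem (B : AltM r F) : xO' hab B ∈ commutator (OM r a b) := by
  classical
  have hc : ∀ u v : Fin r → F × F, xO' hab (Dm a b u v - Dm a b v u) ∈ commutator (OM r a b) := fun u v => by
    have e : xO' hab (Dm a b u v - Dm a b v u) = ⁅(wO hab u : OM r a b), wO hab v⁆ := by
      rw [commutatorElement_def, eq_mul_inv_iff_mul_eq, eq_mul_inv_iff_mul_eq, mul_assoc, wO_mul, wO_mul, ← mul_assoc,
        ← wO_xO hab, mul_assoc, ← xO'_add, sub_add_cancel, add_comm v u]
    rw [e]
    exact Subgroup.commutator_mem_commutator (Subgroup.mem_top _) (Subgroup.mem_top _)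
  have h0 : xO' hab (0 : AltM r F) = 1 := by
    have h := xO'_add hab (0 : AltM r F) 0
    rwa [add_zero, left_eq_mul] at h
  let S : AddSubgroup (AltM r F) :=
    { carrier := {B | xO' hab B ∈ commutator (OM r a b)}
      zero_mem' := Set.mem_setOf.2 (h0 ▸ one_mem _)
      add_mem' := fun {B C} hB hC => Set.mem_setOf.2 (by rw [xO'_add]; exact mul_mem hB hC)
      neg_mem' := fun {B} hB => by
        have h := xO'_add hab (-B) B
        rw [neg_add_cancel, h0] at h
        exact Set.mem_setOf.2 (by rw [eq_inv_of_mul_eq_one_left h.symm]; exact inv_mem hB) }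
  have hw : ∀ (c : F) (i j : Fin r), wedge (c • e i) (e j) ∈ S := by
    intro c i j
    obtain ⟨z, z', hzz⟩ : ∃ z z' : F × F, polar (binForm a b) z z' = c := by
      obtain ⟨z', hz'⟩ : ∃ z', polar (binForm a b) (1, 0) z' ≠ 0 := by
        by_contra hcon
        push Not at hcon
        simpa using congrArg Prod.fst (eq_zero_of_polar (nondeg_binForm hab) hcon)
      exact ⟨(1, 0), (c / polar (binForm a b) (1, 0) z') • z', by
        rw [QuadraticMap.polar_smul_right, smul_eq_mul, div_mul_cancel₀ _ hz']⟩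
    have hs : ∀ (z z' : F × F) (i j k l : Fin r), bb a b (sgl i z k) (sgl j z' l) =
        (if k = i then 1 else 0) * (if l = j then 1 else 0) * bb a b z z' := fun z z' i j k l => by
      by_cases hk : k = i
      · by_cases hl : l = j
        · rw [hk, hl, sgl_same, sgl_same, if_pos rfl, if_pos rfl, one_mul, one_mul]
        · rw [sgl_ne hl, bb_zero_right, if_neg hl, mul_zero, zero_mul]
      · rw [sgl_ne hk, bb_zero_left, if_neg hk, zero_mul, zero_mul]
    have e : wedge (c • e i) (e j) = Dm a b (sgl j z) (sgl i z') - Dm a b (sgl i z') (sgl j z) := by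
      refine Subtype.ext (Matrix.ext fun k l => ?_)
      rw [AddSubgroup.coe_sub, Matrix.sub_apply, Dm_apply, Dm_apply, wedge_apply, hs, hs, hs, hs, ← hzz, ← bb_polar]
      simp only [Pi.smul_apply, smul_eq_mul, Pi.single_apply]
      ring
    rw [e]
    exact hc _ _
  have e : B = ∑ i, ∑ j, wedge (upper B.1 i j • e i) (e j) := by
    refine Subtype.ext (Matrix.ext fun k l => ?_)
    conv_lhs => rw [← upper_sub B]
    simp [AddSubgroup.val_finsetSum, Matrix.sum_apply, wedge_apply, Pi.single_apply, Finset.sum_sub_distrib]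
  rw [e]
  exact S.sum_mem fun i _ => S.sum_mem fun j _ => hw _ i j

/-- The exchange of the first pair. -/
noncomputable def swapM : OM (m + 3) a b :=
  oOf hab
    { toFun := fun p => ((Function.update p.1.1 0 (p.1.2 0), Function.update p.1.2 0 (p.1.1 0)), p.2)
      map_add' := fun p p' => by
        refine Prod.ext (Prod.ext (funext fun i => ?_) (funext fun i => ?_)) rfl
        · show Function.update (p + p').1.1 0 ((p + p').1.2 0) i = Function.update p.1.1 0 (p.1.2 0) i + Function.update p'.1.1 0 (p'.1.2 0) i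
          rcases eq_or_ne i 0 with rfl | hi
          · simp only [Function.update_self]; rfl
          · simp only [Function.update_of_ne hi]; rfl
        · show Function.update (p + p').1.2 0 ((p + p').1.1 0) i = Function.update p.1.2 0 (p.1.1 0) i + Function.update p'.1.2 0 (p'.1.1 0) i
          rcases eq_or_ne i 0 with rfl | hi
          · simp only [Function.update_self]; rfl
          · simp only [Function.update_of_ne hi]; rfl
      map_smul' := fun c p => by
        refine Prod.ext (Prod.ext (funext fun i => ?_) (funext fun i => ?_)) rfl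
        · show Function.update (c • p).1.1 0 ((c • p).1.2 0) i = c * Function.update p.1.1 0 (p.1.2 0) i
          rcases eq_or_ne i 0 with rfl | hi
          · simp only [Function.update_self]; rfl
          · simp only [Function.update_of_ne hi]; rfl
        · show Function.update (c • p).1.2 0 ((c • p).1.1 0) i = c * Function.update p.1.2 0 (p.1.1 0) i
          rcases eq_or_ne i 0 with rfl | hi
          · simp only [Function.update_self]; rfl
          · simp only [Function.update_of_ne hi]; rfl }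
    fun p => by
      rw [hyp_apply, hyp_apply]
      congr 1
      refine Finset.sum_congr rfl fun i _ => ?_
      rcases eq_or_ne i 0 with rfl | hi
      · simp [mul_comm]
      · simp [hi]

theorem swapM_apply (p : Sp (m + 3) F) :
    (swapM hab).1 p = ((Function.update p.1.1 0 (p.1.2 0), Function.update p.1.2 0 (p.1.1 0)), p.2) := rfl

include hab in
theorem swap_rel (B : AltM (m + 3) F) :
    ∃ (C : AltM (m + 3) F) (t : Fin (m + 3) → F) (ht : t ⬝ᵥ e 0 = 0),
      C.1 0 1 = 0 ∧ swapM hab * xO' hab B * (swapM hab)⁻¹ = xO' hab C * LO' hab (tv (e 0) t ht) := by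
  classical
  set d : Fin (m + 3) → F := fun i => if i = 0 then 0 else 1
  set t : Fin (m + 3) → F := fun j => B.1 0 j with htdef
  have ht : t ⬝ᵥ e 0 = 0 := by simp [t, alt_diag]
  refine ⟨act (diagonal d) B, t, ht, by simp [act_val, diagonal_transpose, d], ?_⟩
  rw [mul_inv_eq_iff_eq_mul]
  refine ext_oG fun p => ?_
  have hinv : (tv (e 0) t ht)⁻¹ = tv (e 0) (-t) (by rw [neg_dotProduct, ht, neg_zero]) :=
    inv_eq_of_mul_eq_one_right (by rw [tv_mul_right, tv_congr _ (by simp) rfl (add_neg_cancel t), tv_zero_right])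
  obtain ⟨⟨U, W⟩, z⟩ := p
  rw [oG_mul_apply, oG_mul_apply, oG_mul_apply, swapM_apply]
  show (swapM hab).1 (xLin B ((U, W), z)) = xLin (act (diagonal d) B) ((LO' hab _).1 _)
  rw [swapM_apply, LO'_apply, hinv]
  set U' := Function.update U 0 (W 0) with hU'
  set W' := Function.update W 0 (U 0) with hW'
  set C := act (diagonal d) B with hCdef
  have hC : ∀ i j, C.1 i j = d i * B.1 i j * d j := fun i j => by
    simp [C, act_val, diagonal_transpose, mul_diagonal, diagonal_mul]
  have hA : ∀ i, ((tv (e 0) t ht).1 *ᵥ U') i = U' i + (e 0 : Fin (m + 3) → F) i * (t ⬝ᵥ U') :=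
    fun i => by
      rw [← smul_eq, tv_apply, Pi.add_apply, Pi.smul_apply, smul_eq_mul, mul_comm]
  have hAT : ∀ i, ((tv (e 0) (-t) (by rw [neg_dotProduct, ht, neg_zero])).1ᵀ *ᵥ W') i = W' i - t i * W' 0 :=
    fun i => by
      simp [tv, Matrix.transpose_add, Matrix.transpose_vecMulVec, Matrix.add_mulVec, Matrix.vecMulVec_mulVec,
        Matrix.neg_mulVec, neg_vecMulVec, vecMulVec_neg, sub_eq_add_neg, mul_comm]
  have hd0 : d 0 = 0 := by simp [d]
  have hd1 : ∀ i, i ≠ 0 → d i = 1 := fun i hi => by simp [d, hi]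
  have hU0 : U' 0 = W 0 := by simp [U']
  have hUj : ∀ j, j ≠ 0 → U' j = U j := fun j hj => by simp [U', hj]
  have hW0 : W' 0 = U 0 := by simp [W']
  have hWj : ∀ j, j ≠ 0 → W' j = W j := fun j hj => by simp [W', hj]
  have hdot : t ⬝ᵥ U' = (B.1 *ᵥ U) 0 := Finset.sum_congr rfl fun j _ => by
    rcases eq_or_ne j 0 with rfl | hj
    · simp [t, alt_diag]
    · rw [hUj j hj]
  refine Prod.ext (Prod.ext (funext fun i => ?_) (funext fun i => ?_)) rfl
  · show Function.update U 0 (W 0 + (B.1 *ᵥ U) 0) i = ((tv (e 0) t ht).1 *ᵥ U') i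
    rw [hA, hdot]
    rcases eq_or_ne i 0 with rfl | hi
    · rw [Function.update_self, hU0, e_self, one_mul]
    · rw [Function.update_of_ne hi, hUj i hi, e_ne hi, zero_mul, add_zero]
  · show Function.update (W + B.1 *ᵥ U) 0 (U 0) i = ((tv (e 0) (-t) (by rw [neg_dotProduct, ht, neg_zero])).1ᵀ *ᵥ W') i + (C.1 *ᵥ ((tv (e 0) t ht).1 *ᵥ U')) i
    rw [hAT, hW0]
    rcases eq_or_ne i 0 with rfl | hi
    · rw [Function.update_self, hW0]
      have : (C.1 *ᵥ ((tv (e 0) t ht).1 *ᵥ U')) 0 = 0 := by
        simp only [mulVec, dotProduct]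
        refine Finset.sum_eq_zero fun j _ => ?_
        show C.1 0 j * _ = 0
        rw [hC, hd0, zero_mul, zero_mul, zero_mul]
      rw [this, show t 0 = 0 from alt_diag B 0]
      ring
    · rw [Function.update_of_ne hi, hWj i hi, Pi.add_apply]
      have e1 : (C.1 *ᵥ ((tv (e 0) t ht).1 *ᵥ U')) i = (B.1 *ᵥ U) i - B.1 i 0 * U 0 := by
        rw [eq_sub_iff_add_eq]
        show ∑ j, C.1 i j * _ + _ = ∑ j, B.1 i j * U j
        rw [← Finset.add_sum_erase _ _ (Finset.mem_univ (0 : Fin (m + 3))),
          ← Finset.add_sum_erase _ (fun j => B.1 i j * U j) (Finset.mem_univ (0 : Fin (m + 3))), hC, hd0, mul_zero,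
          zero_mul, zero_add, add_comm]
        congr 1
        refine Finset.sum_congr rfl fun j hj => ?_
        have hj0 := Finset.ne_of_mem_erase hj
        rw [hC, hd1 i hi, hd1 j hj0, one_mul, mul_one, hA, e_ne hj0, zero_mul, add_zero, hUj j hj0]
      rw [e1, show t i = -B.1 i 0 from alt_swap B i 0]
      ring

include hab in
/-- The data of the stabiliser of a maximal totally singular subspace. -/
theorem exists_frame : ∃ E : HFrame m F a b (OmM (m + 3) a b),
    (∀ B, (E.x B).1 = xO' hab B) ∧ (∀ A, (E.L A).1 = LO' hab A) ∧ Function.Injective E.th := by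
  classical
  obtain ⟨z, hz, hzm⟩ := exists_rot (r := m + 3) hab
  have hLO : ∀ A, LO' hab A ∈ commutator (OM (m + 3) a b) := fun A => by
    have hA : A ∈ commutator (SLn (m + 3) F) := by
      rw [Classical.commutator_sl_eq_top (Or.inl (by simp))]; trivial
    have h := Subgroup.mem_map_of_mem (LO' hab) (show A ∈ ⁅(⊤ : Subgroup (SLn (m + 3) F)), ⊤⁆ from hA)
    rw [Subgroup.map_commutator] at h
    exact Subgroup.commutator_mono le_top le_top h
  have hwm : ∀ u, wO hab u ∈ commutator (OM (m + 3) a b) := fun u => by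
    choose y hy using fun i => rot_sub_surj hab z hz (u i)
    set y₂ : Fin (m + 3) → F × F := fun i => qmul a b z.1 (y i) with hy₂
    have e : y₂ = u + y := funext fun i => by
      show qmul a b z.1 (y i) = u i + y i
      rw [← hy i]
      exact (sub_add_cancel _ _).symm
    have h1 : wO hab y₂ = planeO hab (rotO hab z) * wO hab y * (planeO hab (rotO hab z))⁻¹ := by
      rw [rot_wO, mul_inv_cancel_right]
    have h2 : wO hab u = wO hab y₂ * (wO hab y)⁻¹ *
        (wO hab y * xO' hab (Dm a b u y) * (wO hab y)⁻¹) := by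
      have h3 := wO_mul hab u y
      rw [← e] at h3
      rw [eq_mul_inv_of_mul_eq h3]
      group
    rw [h2]
    refine mul_mem ?_ ((inferInstance : (commutator (OM (m + 3) a b)).Normal).conj_mem _ (xO'_mem hab _) _)
    rw [h1, ← commutatorElement_def]
    exact Subgroup.commutator_mem_commutator (Subgroup.mem_top _) (Subgroup.mem_top _)
  let th : OmM (m + 3) a b →* OmM (m + 3) a b :=
    MonoidHom.mk' (fun g => ⟨swapM hab * g.1 * (swapM hab)⁻¹,
      (inferInstance : (commutator (OM (m + 3) a b)).Normal).conj_mem _ g.2 _⟩) fun g h => Subtype.ext (by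
      show swapM hab * (g.1 * h.1) * _ = swapM hab * g.1 * _ * (swapM hab * h.1 * _)
      simp [mul_assoc])
  refine ⟨
    { x :=
        { toFun := fun B => ⟨xO' hab B, xO'_mem hab B⟩
          map_zero_eq_one' := Subtype.ext (by
            have h := xO'_add hab (0 : AltM (m + 3) F) 0
            rw [add_zero, left_eq_mul] at h
            exact h)
          map_add_eq_mul' := fun B C => Subtype.ext (xO'_add hab B C) }
      wv := fun u => ⟨wO hab u, hwm u⟩
      wv_mul := fun u v => Subtype.ext (wO_mul hab u v)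
      wv_x := fun u B => Subtype.ext (wO_xO hab u B)
      L := (LO' hab).codRestrict _ hLO
      hL := fun A B => Subtype.ext (LO'_xO hab A B)
      hLw := fun A u => Subtype.ext (LO'_wO hab A u)
      rot := (rotO hab z).1
      rot_surj := rot_sub_surj hab z hz
      h := ⟨_, hzm⟩
      h_x := fun B => Subtype.ext (planeO_xO hab _ B)
      h_wv := fun u => Subtype.ext (rot_wO hab z u)
      th := th
      th_x := fun B => by
        obtain ⟨C, t, ht, hC, h⟩ := swap_rel hab B
        exact ⟨C, t, ht, hC, Subtype.ext h⟩ }, fun B => rfl, fun A => rfl, fun g h e => ?_⟩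
  exact Subtype.ext (mul_left_cancel (mul_right_cancel (congrArg Subtype.val e)))

end Cfsg.Agent.OrthMinus
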