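import Cfsg.Agent.OrthMinus.Model
import Cfsg.Agent.Classical.OrthChar

/-!
Further elements of the commutator subgroup in even characteristic.
-/

set_option autoImplicit false
set_option linter.unusedSectionVars false

namespace Cfsg.Agent.OrthMinus

open Matrix Module SLDeg OrthDeg QuadraticMap Classical.Quad

variable {F : Type*} [Field F] [Fintype F] {r : ℕ} {a b : F}
variable (hab : ∀ z₁ z₂ : F, z₁ ^ 2 + a * z₁ * z₂ + b * z₂ ^ 2 = 0 → z₁ = 0 ∧ z₂ = 0)

theorem finrank_Sp (r : ℕ) (F : Type*) [Field F] : finrank F (Sp r F) = 2 * r + 2 := by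
  simp only [Module.finrank_prod, Module.finrank_fin_fun, Module.finrank_self]
  ring

include hab in
theorem index_two (h2 : (2 : F) = 0) (hr : 2 ≤ r) : (commutator (OM r a b)).index = 2 := by
  haveI : CharP F 2 := CharTwo.of_one_ne_zero_of_two_eq_zero one_ne_zero h2
  exact (commutator_eq_ker_dickson (nondeg_minus hab) (Or.inr (by rw [finrank_Sp]; omega))
    (by rw [finrank_Sp]; omega)).2

theorem gl_inv_mul (M : GL (Fin r) F) : (M⁻¹).1 * M.1 = 1 := by
  rw [← Units.val_mul, inv_mul_cancel, Units.val_one]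

/-- The Levi embedding of the general linear group. -/
noncomputable def LG : GL (Fin r) F →* OM r a b :=
  MonoidHom.mk' (fun M => (exists_levi hab M.1 (M⁻¹).1 (gl_inv_mul M)).choose) fun M N => ext_oG fun p => by
    rw [oG_mul_apply, (exists_levi hab (M * N).1 ((M * N)⁻¹).1 (gl_inv_mul _)).choose_spec,
      (exists_levi hab M.1 (M⁻¹).1 (gl_inv_mul _)).choose_spec,
      (exists_levi hab N.1 (N⁻¹).1 (gl_inv_mul _)).choose_spec, _root_.mul_inv_rev, Units.val_mul, Units.val_mul,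
      transpose_mul]
    simp [Matrix.mulVec_mulVec]

theorem LG_apply (M : GL (Fin r) F) (p : Sp r F) :
    (LG hab M).1 p = ((M.1 *ᵥ p.1.1, (M⁻¹).1ᵀ *ᵥ p.1.2), p.2) :=
  (exists_levi hab M.1 (M⁻¹).1 (gl_inv_mul M)).choose_spec p

theorem LG_toGL (A : SLn r F) : LG hab (Matrix.SpecialLinearGroup.toGL A) = LO' hab A := ext_oG fun p => by
  rw [LG_apply, LO'_apply, ← map_inv]
  rfl

theorem LG_xO (M : GL (Fin r) F) (B : AltM r F) :
    LG hab M * xO' hab (act M.1ᵀ B) = xO' hab B * LG hab M := ext_oG fun p => by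
  rw [oG_mul_apply, oG_mul_apply, LG_apply, LG_apply, xO'_apply, xO'_apply]
  refine Prod.ext (Prod.ext rfl ?_) rfl
  show (M⁻¹).1ᵀ *ᵥ (p.1.2 + (act M.1ᵀ B).1 *ᵥ p.1.1) = (M⁻¹).1ᵀ *ᵥ p.1.2 + B.1 *ᵥ (M.1 *ᵥ p.1.1)
  rw [Matrix.mulVec_add, Matrix.mulVec_mulVec, Matrix.mulVec_mulVec, act_val, transpose_transpose,
    ← Matrix.mul_assoc, ← Matrix.mul_assoc, ← transpose_mul, ← Units.val_mul, mul_inv_cancel, Units.val_one,
    transpose_one, Matrix.one_mul]

include hab in
/-- In even characteristic the whole general linear group embeds in the commutator subgroup. -/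
theorem exists_outer {m : ℕ} (h2 : (2 : F) = 0) {E : HFrame m F a b (OmM (m + 3) a b)}
    (hx : ∀ B, (E.x B).1 = xO' hab B) (hL : ∀ A, (E.L A).1 = LO' hab A) (M : Matrix (Fin (m + 3)) (Fin (m + 3)) F)
    (hM : M.det ≠ 0) : ∃ g : OmM (m + 3) a b, (∀ B, g * E.x (act Mᵀ B) = E.x B * g) ∧
      ∀ A A' : SLn (m + 3) F, M * A.1 = A'.1 * M → g * E.L A = E.L A' * g := by
  classical
  haveI : CharP F 2 := CharTwo.of_one_ne_zero_of_two_eq_zero one_ne_zero h2
  let Mu : GL (Fin (m + 3)) F := Matrix.GeneralLinearGroup.mkOfDetNeZero M hM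
  have hmem : LG hab Mu ∈ commutator (OM (m + 3) a b) := by
    have hsq : LG hab Mu * LG hab Mu ∈ commutator (OM (m + 3) a b) :=
      Subgroup.mul_self_mem_of_index_two (index_two hab h2 (by omega)) _
    obtain ⟨j, hj⟩ : ∃ j, Fintype.card F - 1 = 2 * j + 1 := by
      have h := Nat.even_iff.2 (FiniteField.even_card_of_char_two (F := F) (ringChar.eq F 2))
      have := Fintype.one_lt_card (α := F)
      obtain ⟨i, hi⟩ := h
      exact ⟨i - 1, by omega⟩
    obtain ⟨A, hA⟩ : ∃ A : SLn (m + 3) F, Matrix.SpecialLinearGroup.toGL A = Mu ^ (Fintype.card F - 1) :=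
      ⟨⟨(Mu ^ (Fintype.card F - 1)).1, by
        rw [Units.val_pow_eq_pow_val, det_pow]; exact FiniteField.pow_card_sub_one_eq_one _ hM⟩, Units.ext rfl⟩
    have h1 : LG hab Mu ^ (2 * j + 1) ∈ commutator (OM (m + 3) a b) := by
      rw [← map_pow, ← hj, ← hA, LG_toGL, ← hL A]
      exact (E.L A).2
    have e : LG hab Mu = ((LG hab Mu * LG hab Mu) ^ j)⁻¹ * LG hab Mu ^ (2 * j + 1) := by
      rw [pow_succ, pow_mul, pow_two, inv_mul_cancel_left]
    rw [e]
    exact mul_mem (inv_mem (pow_mem hsq j)) h1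
  refine ⟨⟨_, hmem⟩, fun B => Subtype.ext ?_, fun A A' h => Subtype.ext ?_⟩
  · show LG hab Mu * (E.x (act Mᵀ B)).1 = (E.x B).1 * LG hab Mu
    rw [hx, hx]
    exact LG_xO hab Mu B
  · show LG hab Mu * (E.L A).1 = (E.L A').1 * LG hab Mu
    rw [hL, hL, ← LG_toGL, ← LG_toGL, ← map_mul, ← map_mul]
    exact congrArg (LG hab) (Units.ext h)

/-- An anisotropic vector of the first block. -/
def pv (i : Fin 3) : Sp 3 F := ((e i, e i), 0)

theorem Q_pv (i : Fin 3) : hyp (binForm a b) 3 (pv i) = 1 := by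
  fin_cases i <;> simp [pv, hyp_apply, Fin.sum_univ_three]

theorem rO_pv (h2 : (2 : F) = 0) (i : Fin 3) (hv : hyp (binForm a b) 3 (pv i) ≠ 0) (p : Sp 3 F) :
    (rO hv).1 p = ((Function.update p.1.1 i (p.1.2 i), Function.update p.1.2 i (p.1.1 i)), p.2) := by
  rw [rO_apply, Q_pv, div_one, polar_hyp]
  have hs : ∑ j, (p.1.1 j * (pv i : Sp 3 F).1.2 j + (pv i : Sp 3 F).1.1 j * p.1.2 j) = p.1.1 i + p.1.2 i := by
    rw [Finset.sum_eq_single i (fun j _ hj => by simp [pv, e_ne hj]) (by simp)]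
    simp [pv]
  have hz : polar (binForm a b) p.2 (pv i : Sp 3 F).2 = 0 := by simp [pv, polar]
  rw [hs, hz, add_zero]
  refine Prod.ext (Prod.ext (funext fun j => ?_) (funext fun j => ?_)) (by simp [pv])
  · rcases eq_or_ne j i with rfl | hj
    · simp [pv]; linear_combination (-p.1.2 j) * h2
    · simp [pv, e_ne hj, Function.update_of_ne hj]
  · rcases eq_or_ne j i with rfl | hj
    · simp [pv]; linear_combination (-p.1.1 j) * h2
    · simp [pv, e_ne hj, Function.update_of_ne hj]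

include hab in
/-- In even characteristic the exchange of the two maximal subspaces is realised in the commutator subgroup. -/
theorem exists_swap (h2 : (2 : F) = 0) {E : HFrame 0 F a b (OmM 3 a b)} (hL : ∀ A, (E.L A).1 = LO' hab A) :
    ∃ s : OmM 3 a b, ∀ A A' : SLn 3 F, A'.1 * A.1ᵀ = 1 → s * E.L A = E.L A' * s := by
  classical
  have hne : ∀ i, hyp (binForm a b) 3 (pv i : Sp 3 F) ≠ 0 := fun i => by rw [Q_pv]; exact one_ne_zero
  let w : Sp 3 F := ((0, 0), (1, 0))
  have hw1 : hyp (binForm a b) 3 w = 1 := by simp [w, hyp_apply, binForm_apply]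
  have hw : hyp (binForm a b) 3 w ≠ 0 := by rw [hw1]; exact one_ne_zero
  set g : OM 3 a b := rO (hne 0) * rO (hne 1) * rO (hne 2) * rO hw
  have hg : g ∈ commutator (OM 3 a b) := by
    have he : ∀ i, Abelianization.of (rO (hne i) : OM 3 a b) = Abelianization.of (rO hw) := fun i =>
      of_rO_congr (nondeg_minus hab) (hne i) hw (t := 1) (by rw [hw1, Q_pv, one_mul, one_mul])
    rw [← Abelianization.ker_of, MonoidHom.mem_ker, map_mul, map_mul, map_mul, he, he, he, of_rO_self, one_mul,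
      of_rO_self]
  have hgp : ∀ p : Sp 3 F, g.1 p = ((p.1.2, p.1.1), ((rO hw : OM 3 a b).1 p).2) := by
    intro p
    have hU : ((rO hw : OM 3 a b).1 p).1 = p.1 := by rw [rO_apply]; simp [w]
    simp only [g, oG_mul_apply, rO_pv h2, hU]
    refine Prod.ext (Prod.ext (funext fun j => ?_) (funext fun j => ?_)) rfl <;> fin_cases j <;> simp [Function.update]
  refine ⟨⟨g, hg⟩, fun A A' h => Subtype.ext (ext_oG fun p => ?_)⟩
  show g.1 ((E.L A).1.1 p) = (E.L A').1.1 (g.1 p)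
  rw [hL, hL, LO'_apply, hgp, hgp, LO'_apply]
  have e1 : A'.1 = (A⁻¹).1ᵀ := by
    calc A'.1 = A'.1 * (A.1ᵀ * (A⁻¹).1ᵀ) := by rw [← transpose_mul, inv_mul_val, transpose_one, mul_one]
      _ = _ := by rw [← Matrix.mul_assoc, h, Matrix.one_mul]
  have e2 : (A'⁻¹).1ᵀ = A.1 := by
    have h' : (A'⁻¹).1 = A.1ᵀ := by
      calc (A'⁻¹).1 = (A'⁻¹).1 * (A'.1 * A.1ᵀ) := by rw [h, mul_one]
        _ = _ := by rw [← Matrix.mul_assoc, inv_mul_val, Matrix.one_mul]
    rw [h', transpose_transpose]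
  rw [e2, ← e1]
  have e3 : ∀ q q' : Sp 3 F, q.2 = q'.2 → ((rO hw : OM 3 a b).1 q).2 = ((rO hw : OM 3 a b).1 q').2 := by
    intro q q' hq
    rw [rO_apply, rO_apply]
    simp [w, polar_hyp, hq]
  exact Prod.ext rfl (e3 _ p rfl)

end Cfsg.Agent.OrthMinus
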